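import Groth.Agent.L05.SurfRes.SepStep
import Groth.Agent.L05.ResNorm.R1
import Groth.Agent.L12.PSRing
import Groth.Agent.S7328
import Groth.Agent.L10.RegularUFD
import Groth.Agent.S0568
import Groth.Agent.S0581
import Groth.Agent.S5784

/-! Separable Noether normalisation of complete two-dimensional domains, and the bound on `H¹`. -/

set_option autoImplicit false
set_option linter.style.haveILetI false
set_option maxHeartbeats 1000000
set_option backward.isDefEq.respectTransparency false
set_option backward.isDefEq.respectTransparency.types false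

universe u

open IsLocalRing CategoryTheory AlgebraicGeometry

namespace Groth.L05.SurfRes

/-- The fraction field of `A` is separable over that of the source of `f`. -/
def SepBase {R A : Type u} [CommRing R] [IsDomain R] [CommRing A] [IsDomain A] (f : R →+* A) : Prop :=
  ∀ [Algebra (FractionRing R) (FractionRing A)],
    (∀ r, algebraMap (FractionRing R) (FractionRing A) (algebraMap R (FractionRing R) r) =
      algebraMap A (FractionRing A) (f r)) → Algebra.IsSeparable (FractionRing R) (FractionRing A)

theorem finrank_lt_of_lt {L : Type u} [Field L] {S S' : Subfield L} (h : S < S') [FiniteDimensional S L] :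
    Module.finrank S' L < Module.finrank S L := by
  letI : Algebra S S' := (Subfield.inclusion h.le).toAlgebra
  haveI : IsScalarTower S S' L := IsScalarTower.of_algebraMap_eq fun _ => rfl
  haveI : FiniteDimensional S S' := FiniteDimensional.left S S' L
  haveI : FiniteDimensional S' L := FiniteDimensional.right S S' L
  rw [← Module.finrank_mul_finrank S S' L]
  have h1 : 1 < Module.finrank S S' := by
    by_contra hle
    have h0 : 0 < Module.finrank S S' := Module.finrank_pos
    have he : Module.finrank S S' = 1 := by omega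
    obtain ⟨z, hz, hzS⟩ := SetLike.exists_of_lt h
    have hb : (⟨z, hz⟩ : S') ∈ (⊥ : Subalgebra S S') := Subalgebra.bot_eq_top_of_finrank_eq_one he ▸ Algebra.mem_top
    obtain ⟨w, hw⟩ := Algebra.mem_bot.1 hb
    have hw' : (w : L) = z := congrArg Subtype.val hw
    exact hzS (hw' ▸ w.2)
  have h2 : 0 < Module.finrank S' L := Module.finrank_pos
  exact lt_mul_of_one_lt_left h2 h1

open MvPowerSeries in
/-- Characteristic `p`: a separable Noether normalisation. -/
theorem exists_separable_charP (A : Type u) [CommRing A] [IsDomain A] [IsLocalRing A] [IsNoetherianRing A]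
    [IsAdicComplete (maximalIdeal A) A] (hdim : ringKrullDim A = 2) (p : ℕ) [Fact p.Prime] [CharP A p] :
    ∃ f : MvPowerSeries (Fin 2) (ResidueField A) →+* A, Function.Injective f ∧ f.Finite ∧
      ∀ (_ : IsDomain (MvPowerSeries (Fin 2) (ResidueField A))), SepBase f := by
  classical
  haveI : CharP (ResidueField A) p := by
    refine CharP.charP_iff_prime_eq_zero Fact.out |>.2 ?_
    rw [← map_natCast (residue A), CharP.cast_eq_zero, map_zero]
  obtain ⟨F, hF⟩ := Groth.L01.Cohen.exists_coefficientField_charP (R := A) (p := p) (CharP.cast_eq_zero A p)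
  haveI : IsLocalHom F := ⟨fun a ha => by
    refine isUnit_iff_ne_zero.2 fun h0 => ?_
    rw [h0, map_zero] at ha
    exact not_isUnit_zero ha⟩
  haveI : IsDomain (ResidueField A) := inferInstance
  haveI : IsAdicComplete (maximalIdeal (ResidueField A)) (ResidueField A) := by
    rw [isField_iff_maximalIdeal_eq.1 (Field.toIsField _)]; infer_instance
  obtain ⟨n, x, N, hx, hN, hn⟩ := Groth.L01.CohenFinite.exists_sop (⊥ : Ideal A) bot_le
  have hn2 : n = 2 := by
    have : ((n : ℕ) : WithBot ℕ∞) = ((2 : ℕ) : WithBot ℕ∞) :=
      (hn.trans (ringKrullDim_eq_of_ringEquiv (RingEquiv.quotientBot A))).trans hdim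
    exact_mod_cast this
  subst hn2
  have hres : Function.Surjective ((residue A).comp F) := by rw [hF]; exact Function.surjective_id
  obtain ⟨f, hf, hfin, -⟩ := Groth.L01.CohenFinite.exists_finite_injective F hres N x hx
    (hN.trans (sup_le le_sup_left bot_le)) (by
      rw [isField_iff_maximalIdeal_eq.1 (Field.toIsField _), Submodule.spanFinrank_bot, zero_add]
      exact hdim.ge)
  let μ : (f : MvPowerSeries (Fin 2) (ResidueField A) →+* A) → Function.Injective f → ℕ :=
    fun f hf => Module.finrank (Ks f hf) (FractionRing A)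
  have hex : ∃ n, ∃ (f : MvPowerSeries (Fin 2) (ResidueField A) →+* A) (hf : Function.Injective f),
      f.Finite ∧ μ f hf = n := ⟨_, f, hf, hfin, rfl⟩
  obtain ⟨f₁, hf₁, hfin₁, hμ⟩ := Nat.find_spec hex
  have htop : Ks f₁ hf₁ = ⊤ := by
    by_contra hne
    obtain ⟨f₂, hf₂, hfin₂, hlt⟩ := exists_step p hdim f₁ hf₁ hfin₁ hne
    haveI : FiniteDimensional (Ks f₁ hf₁) (FractionRing A) := by
      letI := (fldHom f₁ hf₁).toAlgebra
      haveI := finite_fldHom f₁ hf₁ hfin₁
      exact FiniteDimensional.right (FractionRing (MvPowerSeries (Fin 2) (ResidueField A)))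
        (separableClosure (FractionRing (MvPowerSeries (Fin 2) (ResidueField A))) (FractionRing A)) (FractionRing A)
    exact Nat.find_min hex (hμ ▸ finrank_lt_of_lt hlt) ⟨f₂, hf₂, hfin₂, rfl⟩
  refine ⟨f₁, hf₁, hfin₁, fun hT alg halg => ?_⟩
  have halg' : alg = (fldHom f₁ hf₁).toAlgebra := by
    refine Algebra.algebra_ext _ _ fun z => ?_
    exact RingHom.congr_fun (IsLocalization.ringHom_ext (nonZeroDivisors (MvPowerSeries (Fin 2) (ResidueField A)))
      (j := (alg.algebraMap : FractionRing (MvPowerSeries (Fin 2) (ResidueField A)) →+* FractionRing A))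
      (RingHom.ext fun r => (halg r).trans (fldHom_algebraMap f₁ hf₁ r).symm)) z
  rw [halg']
  letI := (fldHom f₁ hf₁).toAlgebra
  refine (separableClosure.eq_top_iff _ _).1 (eq_top_iff.2 fun z _ => ?_)
  show z ∈ Ks f₁ hf₁
  rw [htop]
  exact Subfield.mem_top z

/-- A complete two-dimensional domain is finite, generically separable over a complete regular ring. -/
theorem exists_separable_base (A : Type u) [CommRing A] [IsDomain A] [IsLocalRing A] [IsNoetherianRing A]
    [IsAdicComplete (maximalIdeal A) A] (hdim : ringKrullDim A = 2) :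
    ∃ (R : Type u) (_ : CommRing R) (_ : IsRegularLocalRing R) (_ : IsDomain R) (f : R →+* A),
      ringKrullDim R = 2 ∧ IsAdicComplete (maximalIdeal R) R ∧ Function.Injective f ∧ f.Finite ∧ SepBase f := by
  obtain ⟨q, hq⟩ := CharP.exists A
  rcases CharP.char_is_prime_or_zero A q with hp | rfl
  · haveI := Fact.mk hp
    obtain ⟨f, hf, hfin, hsep⟩ := exists_separable_charP A hdim q
    haveI hd : IsDomain (MvPowerSeries (Fin 2) (ResidueField A)) := NoZeroDivisors.to_isDomain _
    haveI : IsAdicComplete (maximalIdeal (ResidueField A)) (ResidueField A) := by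
      rw [isField_iff_maximalIdeal_eq.1 (Field.toIsField _)]; infer_instance
    exact ⟨_, inferInstance, Groth.L01.PowSerReg.isRegularLocalRing _ 2, hd, f,
      Groth.L01.PowSerReg.ringKrullDim_eq _ 2, Groth.L12.isAdicComplete_mvPowerSeries, hf, hfin, hsep hd⟩
  · haveI := CharP.charP_to_charZero A
    obtain ⟨Λ, iΛ, n, f, hΛ, hf, hfin, -⟩ := Groth.Agent.S0581.result A
    letI := iΛ
    obtain ⟨hΛd, hΛl, hΛr, hΛc⟩ : IsDomain Λ ∧ ∃ (_ : IsLocalRing Λ), IsRegularRing Λ ∧
        IsAdicComplete (maximalIdeal Λ) Λ := by
      rcases hΛ with hk | ⟨hd, hdvr, hc, -⟩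
      · letI := hk.toField
        refine ⟨inferInstance, inferInstance, inferInstance, ?_⟩
        rw [isField_iff_maximalIdeal_eq.1 hk]; infer_instance
      · exact ⟨hd, inferInstance, inferInstance, hc⟩
    haveI := hΛd; haveI := hΛl; haveI := hΛr; haveI := hΛc
    haveI : IsRegularRing (MvPowerSeries (Fin n) Λ) := Groth.Agent.S5784.result Λ n
    haveI : IsRegularLocalRing (MvPowerSeries (Fin n) Λ) := IsRegularLocalRing.of_isRegularRing_of_isLocalRing _
    haveI hd : IsDomain (MvPowerSeries (Fin n) Λ) := NoZeroDivisors.to_isDomain _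
    refine ⟨_, inferInstance, inferInstance, hd, f, ?_, Groth.L12.isAdicComplete_mvPowerSeries, hf, hfin, ?_⟩
    · letI := f.toAlgebra
      haveI : Module.Finite (MvPowerSeries (Fin n) Λ) A := RingHom.finite_algebraMap.1 hfin
      rw [← hdim]
      exact (Groth.L22.AffineDim.ringKrullDim_eq_of_isIntegral (R := MvPowerSeries (Fin n) Λ) (S := A) hf).symm
    · intro alg halg
      letI := alg
      letI := f.toAlgebra
      haveI : Module.Finite (MvPowerSeries (Fin n) Λ) A := RingHom.finite_algebraMap.1 hfin
      haveI : CharZero (MvPowerSeries (Fin n) Λ) := ⟨fun a b h => by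
        have := congrArg f h
        rw [map_natCast, map_natCast] at this
        exact_mod_cast this⟩
      haveI : CharZero (FractionRing (MvPowerSeries (Fin n) Λ)) :=
        charZero_of_injective_algebraMap (IsFractionRing.injective (MvPowerSeries (Fin n) Λ) _)
      haveI : IsScalarTower (MvPowerSeries (Fin n) Λ) (FractionRing (MvPowerSeries (Fin n) Λ)) (FractionRing A) :=
        IsScalarTower.of_algebraMap_eq fun r => (IsScalarTower.algebraMap_apply _ A (FractionRing A) r).trans (halg r).symm
      haveI : FaithfulSMul (MvPowerSeries (Fin n) Λ) A := (faithfulSMul_iff_algebraMap_injective _ _).2 hf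
      haveI : Algebra.IsAlgebraic (MvPowerSeries (Fin n) Λ) A := Algebra.IsIntegral.isAlgebraic
      haveI : IsLocalization (Algebra.algebraMapSubmonoid A (nonZeroDivisors (MvPowerSeries (Fin n) Λ)))
          (FractionRing A) := inferInstance
      haveI : FiniteDimensional (FractionRing (MvPowerSeries (Fin n) Λ)) (FractionRing A) :=
        Module.Finite.of_isLocalization (MvPowerSeries (Fin n) Λ) A (nonZeroDivisors (MvPowerSeries (Fin n) Λ))
      infer_instance

/-- Reduction to rational singularities is possible for complete normal two-dimensional domains. -/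
theorem exists_bound_complete (A : Type u) [CommRing A] [IsDomain A] [IsLocalRing A] [IsNoetherianRing A]
    [IsAdicComplete (maximalIdeal A) A] [IsIntegrallyClosed A] (hdim : ringKrullDim A = 2) :
    ∃ N : ℕ, ∀ (X : Scheme.{u}) [X.Over (Spec (CommRingCat.of A))], IsProper (X ↘ Spec (CommRingCat.of A)) →
        IsIntegral X → Pi1.IsNormalScheme X →
        (∃ U : (Spec (CommRingCat.of A)).Opens, (U : Set (Spec (CommRingCat.of A))).Nonempty ∧
          IsIso ((X ↘ Spec (CommRingCat.of A)) ∣_ U)) →
        Module.length A (Coh.HH X (Coh.structureModule X) 1) ≤ (N : ℕ∞) := by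
  obtain ⟨R, iR, iReg, iD, f, hdR, hcR, hf, hfin, hsep⟩ := exists_separable_base A hdim
  letI := iR
  haveI := iReg; haveI := iD; haveI := hcR
  letI : Algebra R A := f.toAlgebra
  haveI : Module.Finite R A := RingHom.finite_algebraMap.1 hfin
  haveI : IsLocalHom (algebraMap R A) := (RingHom.Finite.to_isIntegral hfin).isLocalHom hf
  haveI : IsIntegrallyClosed R := by
    haveI := Groth.L10.RegUFD.isUFD R
    infer_instance
  letI : Algebra (FractionRing R) (FractionRing A) :=
    (IsFractionRing.lift (g := (algebraMap A (FractionRing A)).comp f)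
      ((IsFractionRing.injective A (FractionRing A)).comp hf)).toAlgebra
  have hc : ∀ r, algebraMap (FractionRing R) (FractionRing A) (algebraMap R (FractionRing R) r) =
      algebraMap A (FractionRing A) (f r) := fun r =>
    IsFractionRing.lift_algebraMap (g := (algebraMap A (FractionRing A)).comp f) _ r
  haveI : Algebra.IsSeparable (FractionRing R) (FractionRing A) := hsep hc
  refine Groth.Agent.S7328.result R A (Groth.Agent.S0568.result R) (Groth.Agent.S0568.result A) hdR hdim hf
    (fun r => hc r) ⟨0, fun X _ hp hi hn hb => ?_⟩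
  haveI := Groth.L05.ResNorm.isRationalSing_regular R hdR X (X ↘ Spec (CommRingCat.of R)) hp hi hn hb
  simp [Module.length_eq_zero]

end Groth.L05.SurfRes
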