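import Groth.Agent.S9405
import Mathlib.RingTheory.LocalRing.RingHom.Basic

/-! Completeness of finite local extensions. -/

set_option autoImplicit false
set_option linter.style.haveILetI false

universe u

open IsLocalRing

namespace Groth.L05.SurfRes

theorem isAdicComplete_of_finite_local (R S : Type u) [CommRing R] [IsLocalRing R] [IsNoetherianRing R]
    [IsAdicComplete (maximalIdeal R) R] [CommRing S] [IsLocalRing S] [Algebra R S] [Module.Finite R S]
    [IsLocalHom (algebraMap R S)] : IsAdicComplete (maximalIdeal S) S := by
  have : IsNoetherianRing S := IsNoetherianRing.of_finite R S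
  have h1 := Groth.Agent.S9405.isAdicComplete_of_finite (maximalIdeal R) S
  have : IsAdicComplete ((maximalIdeal R).map (algebraMap R S)) S :=
    (IsAdicComplete.map_algebraMap_iff _ _).2 h1
  have hle : (maximalIdeal R).map (algebraMap R S) ≤ maximalIdeal S :=
    Ideal.map_le_iff_le_comap.2 fun a ha => map_nonunit (algebraMap R S) a ha
  have hrad : maximalIdeal S ≤ ((maximalIdeal R).map (algebraMap R S)).radical := by
    rw [Ideal.radical_eq_sInf, le_sInf_iff]
    rintro P ⟨hP, hPp⟩
    have hc := (maximalIdeal.isMaximal R).eq_of_le (Ideal.comap_ne_top _ hPp.ne_top)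
      (Ideal.map_le_iff_le_comap.mp hP)
    have hPmax : P.IsMaximal := Ideal.isMaximal_of_isIntegral_of_isMaximal_comap (R := R) P
      (hc ▸ maximalIdeal.isMaximal R)
    exact (eq_maximalIdeal hPmax).ge
  obtain ⟨N, hN⟩ := Ideal.exists_pow_le_of_le_radical_of_fg hrad (IsNoetherian.noetherian _)
  exact Groth.Agent.S9405.isAdicComplete_of_pow_le hle hN

end Groth.L05.SurfRes
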