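import Groth.Agent.L01.PowSerReg
import Groth.Agent.L01.CohenRing
import Groth.Agent.L03.FieldFS
import Groth.Agent.L06.FormSmoothPBasis
import Groth.Agent.L18.GrFreePic
import Groth.Agent.L01.CohenFinite
import Groth.Agent.L06.FormSmoothPS
import Mathlib.RingTheory.MvPowerSeries.Derivative
import Mathlib.RingTheory.MvPowerSeries.Expand
import Mathlib.RingTheory.MvPowerSeries.NoZeroDivisors
import Mathlib.RingTheory.Smooth.AdicCompletion
import Mathlib.Algebra.Field.ULift

/-! Partial derivatives of power series in characteristic `p`, and changes of the coefficient field. -/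

set_option autoImplicit false
set_option linter.style.haveILetI false

universe u

open MvPowerSeries

namespace Groth.L05.SurfRes

variable {k : Type u} [Field k] (p : ℕ) [hp : Fact p.Prime] [CharP k p]

theorem dvd_of_pderiv_eq_zero {g : MvPowerSeries (Fin 2) k} (hg : ∀ i, pderiv k i g = 0)
    {d : Fin 2 →₀ ℕ} (hd : coeff d g ≠ 0) (i : Fin 2) : p ∣ d i := by
  rcases Nat.eq_zero_or_pos (d i) with h | h
  · rw [h]; exact dvd_zero p
  · have h1 := congrArg (coeff (d - Finsupp.single i 1)) (hg i)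
    rw [coeff_pderiv, map_zero, tsub_add_cancel_of_le (Finsupp.single_le_iff.2 h)] at h1
    have h2 := (mul_eq_zero.1 h1).resolve_left hd
    rw [Finsupp.tsub_apply, Finsupp.single_eq_same, Nat.cast_sub h, Nat.cast_one, sub_add_cancel] at h2
    exact (CharP.cast_eq_zero_iff k p _).1 h2

/-- A series killed by the partials, with all coefficients `p`-th powers, is a `p`-th power. -/
theorem exists_pow_eq {g : MvPowerSeries (Fin 2) k} (hg : ∀ i, pderiv k i g = 0)
    (h : ∀ d, ∃ c : k, c ^ p = coeff d g) : ∃ f, f ^ p = g := by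
  choose c hc using h
  haveI : ExpChar k p := ExpChar.prime hp.out
  let f : MvPowerSeries (Fin 2) k := fun d => c (p • d)
  refine ⟨f, ?_⟩
  rw [← map_frobenius_expand p hp.out.ne_zero]
  ext d
  rw [coeff_map]
  by_cases hd : ∀ i, p ∣ d i
  · have he : d = p • d.mapRange (· / p) (Nat.zero_div p) := Finsupp.ext fun i => by
      simp [Nat.mul_div_cancel' (hd i)]
    rw [he, coeff_expand_smul]
    show c (p • _) ^ p = _
    rw [← he]
    exact hc d
  · obtain ⟨i, hi⟩ := not_forall.1 hd
    rw [coeff_expand_of_not_dvd p hp.out.ne_zero f hi, map_zero]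
    by_contra h0
    exact hi (dvd_of_pderiv_eq_zero p hg (Ne.symm h0) i)

theorem pderiv_pow_p (i : Fin 2) (f : MvPowerSeries (Fin 2) k) : pderiv k i (f ^ p) = 0 := by
  rw [pderiv_pow, show ((p : ℕ) : MvPowerSeries (Fin 2) k) = C ((p : ℕ) : k) by rw [map_natCast],
    CharP.cast_eq_zero, map_zero, zero_mul, zero_mul]

include p hp in
/-- An embedding of the field in the series, reducing to the identity, with a prescribed first order term. -/
theorem exists_coeff_emb (D : Derivation ℤ k k) :
    ∃ i : k →+* MvPowerSeries (Fin 2) k, (∀ c, constantCoeff (i c) = c) ∧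
      ∀ c, coeff (Finsupp.single 0 1) (i c) = D c := by
  classical
  let I : Ideal (MvPowerSeries (Fin 2) k) :=
    Ideal.span {(X 0 : MvPowerSeries (Fin 2) k) ^ 2, (X 1 : MvPowerSeries (Fin 2) k)}
  haveI : IsAdicComplete (IsLocalRing.maximalIdeal (MvPowerSeries (Fin 2) k)) (MvPowerSeries (Fin 2) k) := by
    rw [Groth.L01.PowSerReg.maximalIdeal_eq]
    haveI := Groth.L01.CohenFinite.isHausdorff_varIdeal k 2
    exact {}
  have hIm : I ≤ IsLocalRing.maximalIdeal (MvPowerSeries (Fin 2) k) := by
    rw [Groth.L01.PowSerReg.maximalIdeal_eq, Ideal.span_le]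
    rintro _ (rfl | rfl)
    · exact Ideal.pow_mem_of_mem (Groth.L01.PowSerReg.varIdeal k 2) (Ideal.subset_span ⟨0, rfl⟩) 2 two_pos
    · exact (Ideal.subset_span ⟨1, rfl⟩ : _ ∈ Groth.L01.PowSerReg.varIdeal k 2)
  haveI : IsAdicComplete I (MvPowerSeries (Fin 2) k) :=
    Groth.L18.GrFreePic.isAdicComplete_of_le (IsLocalRing.maximalIdeal (MvPowerSeries (Fin 2) k)) I hIm
  let Q := MvPowerSeries (Fin 2) k ⧸ I
  have hX : (Ideal.Quotient.mk I (X 0)) * Ideal.Quotient.mk I (X 0) = 0 := by
    rw [← map_mul, ← sq, Ideal.Quotient.eq_zero_iff_mem]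
    exact Ideal.subset_span (by simp)
  let j : k →+* Q :=
    { toFun := fun c => Ideal.Quotient.mk I (C c) + Ideal.Quotient.mk I (C (D c)) * Ideal.Quotient.mk I (X 0)
      map_one' := by simp [D.map_one_eq_zero]
      map_mul' := fun a b => by
        simp only [Derivation.leibniz, smul_eq_mul, map_add, map_mul]
        linear_combination (-(Ideal.Quotient.mk I (C (D a)) * Ideal.Quotient.mk I (C (D b)))) * hX
      map_zero' := by simp
      map_add' := fun a b => by simp only [map_add]; ring }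
  let F₀ := ULift.{u} (ZMod p)
  letI : Algebra F₀ k := ((ZMod.castHom dvd_rfl k).comp (ULift.ringEquiv (R := ZMod p)).toRingHom).toAlgebra
  letI : Algebra F₀ (MvPowerSeries (Fin 2) k) := ((C (σ := Fin 2) (R := k)).comp (algebraMap F₀ k)).toAlgebra
  haveI : Finite F₀ := Finite.of_equiv _ Equiv.ulift.symm
  haveI : Algebra.FormallySmooth F₀ k := Groth.L03.FieldFS.formallySmooth_of_perfectField F₀ k
  let jA : k →ₐ[F₀] Q :=
    { j with
      commutes' := fun r => by
        have h1 : ((j.comp (algebraMap F₀ k)).comp (ULift.ringEquiv (R := ZMod p)).symm.toRingHom) =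
            (algebraMap F₀ Q).comp (ULift.ringEquiv (R := ZMod p)).symm.toRingHom := Subsingleton.elim _ _
        have h2 := RingHom.congr_fun h1 ((ULift.ringEquiv (R := ZMod p)) r)
        simpa using h2 }
  obtain ⟨g, hg⟩ := Algebra.FormallySmooth.exists_mkₐ_comp_eq_of_isAdicComplete jA
  have hmem : ∀ c, g c - (C c + C (D c) * X 0) ∈ I := fun c => by
    rw [← Ideal.Quotient.eq, map_add, map_mul]
    exact DFunLike.congr_fun hg c
  have hI : ∀ z ∈ I, constantCoeff z = 0 ∧ coeff (Finsupp.single 0 1) z = 0 := fun z hz => by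
    obtain ⟨a, b, rfl⟩ := Ideal.mem_span_pair.1 hz
    constructor
    · simp
    · rw [map_add, X_pow_eq, X_def, coeff_mul_monomial, coeff_mul_monomial, if_neg, if_neg, add_zero]
      · intro h
        have := h 1
        simp at this
      · intro h
        have := h 0
        simp at this
  refine ⟨g.toRingHom, fun c => ?_, fun c => ?_⟩
  · have := (hI _ (hmem c)).1
    rw [map_sub, sub_eq_zero] at this
    exact this.trans (by simp)
  · have := (hI _ (hmem c)).2
    rw [map_sub, sub_eq_zero] at this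
    refine this.trans ?_
    rw [map_add, coeff_C, if_neg (by simp), zero_add, X_def, coeff_mul_monomial, if_pos le_rfl, tsub_self,
      coeff_zero_C, mul_one]

/-- A change of coefficient field making some partial derivative nonzero. -/
theorem exists_change {g : MvPowerSeries (Fin 2) k} (hg : ¬ ∃ f, f ^ p = g) :
    ∃ (φ : MvPowerSeries (Fin 2) k ≃+* MvPowerSeries (Fin 2) k) (i : Fin 2), pderiv k i (φ g) ≠ 0 := by
  classical
  by_cases hz : ∀ i, pderiv k i g = 0
  swap
  · obtain ⟨i, hi⟩ := not_forall.1 hz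
    exact ⟨RingEquiv.refl _, i, hi⟩
  have hex : ∃ d, ¬ ∃ c : k, c ^ p = coeff d g := not_forall.1 fun h => hg (exists_pow_eq p hz h)
  have hexn : ∃ n : ℕ, ∃ d : Fin 2 →₀ ℕ, Finsupp.degree d = n ∧ ¬ ∃ c : k, c ^ p = coeff d g := by
    obtain ⟨d, hd⟩ := hex
    exact ⟨_, d, rfl, hd⟩
  obtain ⟨d₀, hd₀n, hd₀⟩ := Nat.find_spec hexn
  obtain ⟨D, -, hD⟩ := Groth.L06.PBasis.exists_der_killing p (frobenius k p).fieldRange
    (fun x => ⟨x, rfl⟩) (c := coeff d₀ g) (fun ⟨c, hc⟩ => hd₀ ⟨c, hc⟩)
  obtain ⟨i, hi0, hi1⟩ := exists_coeff_emb p D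
  haveI : IsAdicComplete (IsLocalRing.maximalIdeal (MvPowerSeries (Fin 2) k)) (MvPowerSeries (Fin 2) k) := by
    rw [Groth.L01.PowSerReg.maximalIdeal_eq]
    haveI := Groth.L01.CohenFinite.isHausdorff_varIdeal k 2
    exact {}
  have hres : Function.Surjective ((IsLocalRing.residue (MvPowerSeries (Fin 2) k)).comp i) := fun z => by
    obtain ⟨z, rfl⟩ := IsLocalRing.residue_surjective z
    refine ⟨constantCoeff z, ?_⟩
    rw [RingHom.comp_apply, ← sub_eq_zero, ← map_sub, IsLocalRing.residue_eq_zero_iff, IsLocalRing.mem_maximalIdeal,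
      mem_nonunits_iff, isUnit_iff_constantCoeff, map_sub, hi0, sub_self]
    exact not_isUnit_zero
  obtain ⟨φ, hφC, hφX, hφs⟩ := Groth.L01.Cohen.exists_surjective_powerSeries i hres
    (fun j : Fin 2 => (X j : MvPowerSeries (Fin 2) k)) (Groth.L01.PowSerReg.maximalIdeal_eq k 2).symm
  haveI : IsDomain (MvPowerSeries (Fin 2) k) := NoZeroDivisors.to_isDomain _
  have hφb : Function.Bijective φ :=
    ⟨Groth.L06.FormSmooth.injective_of_surjective_of_dim φ hφs rfl, hφs⟩
  refine ⟨RingEquiv.ofBijective φ hφb, 0, fun h0 => ?_⟩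
  change pderiv k 0 (φ g) = 0 at h0
  -- truncate
  let n := Nat.find hexn
  let S : Finset (Fin 2 →₀ ℕ) := (Finset.Iic (Finsupp.equivFunOnFinite.symm fun _ => n)).filter
    fun d => Finsupp.degree d ≤ n
  have hS : ∀ d : Fin 2 →₀ ℕ, d ∈ S ↔ Finsupp.degree d ≤ n := fun d => by
    refine ⟨fun h => (Finset.mem_filter.1 h).2, fun h => Finset.mem_filter.2 ⟨Finset.mem_Iic.2 fun j => ?_, h⟩⟩
    exact (Finsupp.le_degree j d).trans h
  let P : MvPowerSeries (Fin 2) k := ∑ d ∈ S, monomial d (coeff d g)
  have hP : ∀ d, coeff d P = if d ∈ S then coeff d g else 0 := fun d => by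
    simp only [P, map_sum, coeff_monomial, Finset.sum_ite_eq]
  have hpd : ∀ (d : Fin 2 →₀ ℕ), coeff d g ≠ 0 → p ∣ Finsupp.degree d := fun d hd => by
    rw [Finsupp.degree_eq_sum]
    exact Finset.dvd_sum fun j _ => dvd_of_pderiv_eq_zero p hz hd j
  have hhi : (((n + 2 : ℕ)) : ℕ∞) ≤ (g - P).order := by
    refine nat_le_order fun d hd => ?_
    rw [map_sub, hP, sub_eq_zero]
    split_ifs with h
    · rfl
    · by_contra hne
      rw [hS, not_le] at h
      obtain ⟨a, ha⟩ := hpd d hne
      have hd₀0 : coeff d₀ g ≠ 0 := fun h' => hd₀ ⟨0, by rw [h', zero_pow hp.out.ne_zero]⟩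
      obtain ⟨b, hb⟩ := hpd d₀ hd₀0
      change Finsupp.degree d₀ = n at hd₀n
      rw [hd₀n] at hb
      have hp2 := hp.out.two_le
      have hab : b < a := by
        by_contra hc
        exact absurd (Nat.mul_le_mul_left p (not_lt.1 hc)) (by omega)
      have := Nat.mul_le_mul_left p hab
      rw [Nat.mul_succ] at this
      omega
  have hφm : ∀ m, ∀ z ∈ Groth.L01.PowSerReg.varIdeal k 2 ^ m, φ z ∈ Groth.L01.PowSerReg.varIdeal k 2 ^ m := by
    intro m z hz'
    have := Ideal.mem_map_of_mem φ hz'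
    rw [Ideal.map_pow, Groth.L01.PowSerReg.varIdeal, Ideal.map_span, ← Set.range_comp,
      show (⇑φ ∘ X) = (X : Fin 2 → MvPowerSeries (Fin 2) k) from funext hφX] at this
    exact this
  have hcoeff : coeff d₀ (pderiv k 0 (φ (g - P))) = 0 := by
    rw [coeff_pderiv, coeff_of_lt_order, zero_mul]
    refine lt_of_lt_of_le ?_ (Groth.L01.PowSerReg.order_of_mem_pow _ _ (hφm _ _
      (Groth.L01.PowSerReg.mem_pow_of_order _ _ hhi)))
    rw [map_add, Finsupp.degree_single, show Finsupp.degree d₀ = n from hd₀n]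
    exact_mod_cast Nat.lt_succ_self (n + 1)
  have h1 : coeff d₀ (pderiv k 0 (φ P)) = 1 := by
    rw [show φ P = ∑ d ∈ S, φ (monomial d (coeff d g)) from map_sum φ _ _, map_sum, map_sum]
    rw [Finset.sum_eq_single d₀]
    · rw [coeff_pderiv]
      have hd0dvd : p ∣ d₀ 0 := dvd_of_pderiv_eq_zero p hz
        (fun h' => hd₀ ⟨0, by rw [h', zero_pow hp.out.ne_zero]⟩) 0
      rw [(CharP.cast_eq_zero_iff k p _).2 hd0dvd, zero_add, mul_one,
        show monomial d₀ (coeff d₀ g) = C (coeff d₀ g) * monomial d₀ (1 : k) by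
          rw [← monomial_zero_eq_C_apply, monomial_mul_monomial, zero_add, mul_one],
        map_mul, show φ (C (coeff d₀ g)) = i (coeff d₀ g) from RingHom.congr_fun hφC _]
      have hφmon : φ (monomial d₀ (1 : k)) = monomial d₀ 1 := by
        rw [monomial_one_eq, map_finsuppProd]
        simp only [map_pow, hφX]
      rw [hφmon, coeff_mul_monomial, if_pos le_self_add, add_tsub_cancel_left, hi1, mul_one]
      exact hD
    · intro d hdS hne
      by_cases hdc : ∃ c : k, c ^ p = coeff d g
      · obtain ⟨c, hc⟩ := hdc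
        rcases eq_or_ne c 0 with rfl | hc0
        · rw [← hc, zero_pow hp.out.ne_zero, map_zero, map_zero, map_zero, map_zero]
        · have hdd := fun j => dvd_of_pderiv_eq_zero p hz (d := d) (by rw [← hc]; exact pow_ne_zero _ hc0) j
          have he : d = p • d.mapRange (· / p) (Nat.zero_div p) := Finsupp.ext fun j => by
            simp [Nat.mul_div_cancel' (hdd j)]
          rw [← hc, he, show monomial (p • d.mapRange (· / p) (Nat.zero_div p)) (c ^ p) =
            (monomial (d.mapRange (· / p) (Nat.zero_div p)) c) ^ p by rw [monomial_pow], map_pow,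
            pderiv_pow_p, map_zero]
      · -- the others of least degree
        have hdn : Finsupp.degree d = n :=
          le_antisymm ((hS d).1 hdS) (Nat.find_le ⟨d, rfl, hdc⟩)
        rw [coeff_pderiv, show monomial d (coeff d g) = C (coeff d g) * monomial d (1 : k) by
          rw [← monomial_zero_eq_C_apply, monomial_mul_monomial, zero_add, mul_one], map_mul]
        have hφmon : φ (monomial d (1 : k)) = monomial d 1 := by
          rw [monomial_one_eq, map_finsuppProd]
          simp only [map_pow, hφX]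
        rw [hφmon, coeff_mul_monomial, if_neg, zero_mul]
        intro hle
        have hd1 := dvd_of_pderiv_eq_zero p hz (d := d) (fun h' => hdc ⟨0, by rw [h', zero_pow hp.out.ne_zero]⟩)
        have hd2 := dvd_of_pderiv_eq_zero p hz (d := d₀) (fun h' => hd₀ ⟨0, by rw [h', zero_pow hp.out.ne_zero]⟩)
        have e0 : d 0 ≤ d₀ 0 + 1 := by simpa using hle 0
        have e1 : d 1 ≤ d₀ 1 := by simpa using hle 1
        change Finsupp.degree d₀ = n at hd₀n
        rw [Finsupp.degree_eq_sum, Fin.sum_univ_two] at hdn hd₀n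
        have hp2 := hp.out.two_le
        have h00 : d 0 ≤ d₀ 0 := by
          by_contra hc
          have heq : d 0 = d₀ 0 + 1 := by omega
          have := (Nat.dvd_add_right (hd2 0)).1 (heq ▸ hd1 0)
          exact absurd (Nat.le_of_dvd one_pos this) (by omega)
        refine hne (Finsupp.ext fun j => ?_)
        fin_cases j <;> simp <;> omega
    · intro h
      exact absurd ((hS d₀).2 hd₀n.le) h
  have h2 := congrArg (coeff d₀) h0
  rw [show g = P + (g - P) by ring, map_add, map_add, map_add, h1, hcoeff, map_zero, add_zero] at h2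
  exact one_ne_zero h2

omit [CharP k p] in
/-- The decomposition by residues of the exponents modulo `p`. -/
theorem exists_decomp (g : MvPowerSeries (Fin 2) k) :
    ∃ h : Fin p × Fin p → MvPowerSeries (Fin 2) k, (∀ e d, coeff d (h e) ≠ 0 → ∀ i, p ∣ d i) ∧
      g = ∑ e : Fin p × Fin p, (X 0 : MvPowerSeries (Fin 2) k) ^ (e.1 : ℕ) * X 1 ^ (e.2 : ℕ) * h e := by
  classical
  let E : Fin p × Fin p → (Fin 2 →₀ ℕ) := fun e => Finsupp.single 0 (e.1 : ℕ) + Finsupp.single 1 (e.2 : ℕ)
  have hE : ∀ e : Fin p × Fin p,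
      (X 0 : MvPowerSeries (Fin 2) k) ^ (e.1 : ℕ) * X 1 ^ (e.2 : ℕ) = monomial (E e) 1 := fun e => by
    rw [X_pow_eq, X_pow_eq, monomial_mul_monomial, mul_one]
  let h : Fin p × Fin p → MvPowerSeries (Fin 2) k :=
    fun e d => if ∀ i, p ∣ d i then coeff (d + E e) g else 0
  have hh : ∀ e d, coeff d (h e) = if ∀ i, p ∣ d i then coeff (d + E e) g else 0 := fun e d => rfl
  refine ⟨h, fun e d hd => ?_, ?_⟩
  · rw [hh] at hd
    by_contra hc
    exact hd (if_neg hc)
  · ext n
    let e0 : Fin p × Fin p := (⟨n 0 % p, Nat.mod_lt _ hp.out.pos⟩, ⟨n 1 % p, Nat.mod_lt _ hp.out.pos⟩)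
    have h0 : ∀ e : Fin p × Fin p, E e 0 = e.1 ∧ E e 1 = e.2 := fun e => by simp [E]
    rw [map_sum, Finset.sum_eq_single e0]
    · have hle : E e0 ≤ n := fun i => by
        fin_cases i
        · show E e0 0 ≤ n 0
          rw [(h0 e0).1]; exact Nat.mod_le _ _
        · show E e0 1 ≤ n 1
          rw [(h0 e0).2]; exact Nat.mod_le _ _
      have hdv : ∀ i, p ∣ (n - E e0) i := fun i => by
        rw [Finsupp.tsub_apply]
        fin_cases i
        · show p ∣ n 0 - E e0 0
          rw [(h0 e0).1]; exact Nat.dvd_sub_mod _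
        · show p ∣ n 1 - E e0 1
          rw [(h0 e0).2]; exact Nat.dvd_sub_mod _
      rw [hE, coeff_monomial_mul, if_pos hle, one_mul, hh, if_pos hdv, tsub_add_cancel_of_le hle]
    · intro e _ hne
      rw [hE, coeff_monomial_mul]
      split_ifs with hle
      · rw [one_mul, hh, if_neg]
        intro hdv
        have a0 := hdv 0
        have a1 := hdv 1
        rw [Finsupp.tsub_apply, (h0 e).1] at a0
        rw [Finsupp.tsub_apply, (h0 e).2] at a1
        have b0 := hle 0
        have b1 := hle 1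
        rw [(h0 e).1] at b0
        rw [(h0 e).2] at b1
        refine hne (Prod.ext (Fin.ext ?_) (Fin.ext ?_))
        · show (e.1 : ℕ) = n 0 % p
          obtain ⟨c, hc⟩ := a0
          rw [show n 0 = (e.1 : ℕ) + p * c by omega, Nat.add_mul_mod_self_left, Nat.mod_eq_of_lt e.1.2]
        · show (e.2 : ℕ) = n 1 % p
          obtain ⟨c, hc⟩ := a1
          rw [show n 1 = (e.2 : ℕ) + p * c by omega, Nat.add_mul_mod_self_left, Nat.mod_eq_of_lt e.2.2]
      · rfl
    · intro h
      exact absurd (Finset.mem_univ _) h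

end Groth.L05.SurfRes
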