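import Groth.Agent.L05.SurfRes.PSDeriv
import Groth.Agent.L05.SepUp.Algebra
import Mathlib.FieldTheory.SeparableClosure
import Mathlib.FieldTheory.PurelyInseparable.Basic
import Mathlib.RingTheory.Unramified.Field

/-! The key step towards a separable Noether normalisation of a two-dimensional complete domain. -/

set_option autoImplicit false
set_option linter.style.haveILetI false
set_option maxHeartbeats 1000000

universe u

open MvPowerSeries IsLocalRing

namespace Groth.L05.SurfRes

/-- A submodule of a finite module over a Noetherian local ring is closed. -/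
theorem mem_of_forall_mem_sup {R : Type u} [CommRing R] [IsLocalRing R] [IsNoetherianRing R] {M : Type u}
    [AddCommGroup M] [Module R M] [Module.Finite R M] (S : Submodule R M) {z : M}
    (h : ∀ N : ℕ, z ∈ S ⊔ maximalIdeal R ^ N • (⊤ : Submodule R M)) : z ∈ S := by
  have h1 : (⨅ N : ℕ, maximalIdeal R ^ N • (⊤ : Submodule R (M ⧸ S))) = ⊥ :=
    Ideal.iInf_pow_smul_eq_bot_of_le_jacobson _ (maximalIdeal_le_jacobson ⊥)
  rw [← Submodule.Quotient.mk_eq_zero, ← Submodule.mem_bot R, ← h1, Submodule.mem_iInf]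
  intro N
  obtain ⟨s, hs, w, hw, rfl⟩ := Submodule.mem_sup.1 (h N)
  rw [Submodule.Quotient.mk_add, (Submodule.Quotient.mk_eq_zero S).2 hs, zero_add]
  have := Submodule.mem_map_of_mem (f := S.mkQ) hw
  rw [Submodule.map_smul'', Submodule.map_top, Submodule.range_mkQ] at this
  exact this

variable {k : Type u} [Field k] {A : Type u} [CommRing A] [IsDomain A]

/-- The embedding of the fraction field of the series ring. -/
noncomputable def fldHom (f : MvPowerSeries (Fin 2) k →+* A) (hf : Function.Injective f) :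
    FractionRing (MvPowerSeries (Fin 2) k) →+* FractionRing A :=
  IsFractionRing.lift (g := (algebraMap A (FractionRing A)).comp f)
    ((IsFractionRing.injective A (FractionRing A)).comp hf)

theorem fldHom_algebraMap (f : MvPowerSeries (Fin 2) k →+* A) (hf : Function.Injective f)
    (t : MvPowerSeries (Fin 2) k) :
    fldHom f hf (algebraMap _ _ t) = algebraMap A (FractionRing A) (f t) :=
  IsFractionRing.lift_algebraMap _ t

/-- The separable closure of the base in the fraction field. -/
noncomputable def Ks (f : MvPowerSeries (Fin 2) k →+* A) (hf : Function.Injective f) : Subfield (FractionRing A) :=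
  letI := (fldHom f hf).toAlgebra
  (separableClosure (FractionRing (MvPowerSeries (Fin 2) k)) (FractionRing A)).toSubfield

theorem finite_fldHom (f : MvPowerSeries (Fin 2) k →+* A) (hf : Function.Injective f) (hfin : f.Finite) :
    letI := (fldHom f hf).toAlgebra
    FiniteDimensional (FractionRing (MvPowerSeries (Fin 2) k)) (FractionRing A) := by
  letI := (fldHom f hf).toAlgebra
  letI : Algebra (MvPowerSeries (Fin 2) k) A := f.toAlgebra
  haveI : Module.Finite (MvPowerSeries (Fin 2) k) A := RingHom.finite_algebraMap.1 hfin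
  haveI : IsScalarTower (MvPowerSeries (Fin 2) k) (FractionRing (MvPowerSeries (Fin 2) k)) (FractionRing A) :=
    IsScalarTower.of_algebraMap_eq fun t => (IsScalarTower.algebraMap_apply _ A (FractionRing A) t).trans (fldHom_algebraMap f hf t).symm
  haveI : Algebra.IsAlgebraic (MvPowerSeries (Fin 2) k) A := Algebra.IsIntegral.isAlgebraic
  haveI : FaithfulSMul (MvPowerSeries (Fin 2) k) A := (faithfulSMul_iff_algebraMap_injective _ _).2 hf
  haveI : IsLocalization (Algebra.algebraMapSubmonoid A (nonZeroDivisors (MvPowerSeries (Fin 2) k))) (FractionRing A) :=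
    inferInstance
  exact Module.Finite.of_isLocalization (MvPowerSeries (Fin 2) k) A (nonZeroDivisors (MvPowerSeries (Fin 2) k))

variable [IsLocalRing A] [IsNoetherianRing A]

theorem isLocalHom_of_finite (f : MvPowerSeries (Fin 2) k →+* A) (hf : Function.Injective f) (hfin : f.Finite) :
    IsLocalHom f :=
  hfin.to_isIntegral.isLocalHom hf

theorem exists_pow_le (f : MvPowerSeries (Fin 2) k →+* A) (hf : Function.Injective f) (hfin : f.Finite) :
    ∃ e, maximalIdeal A ^ e ≤ (maximalIdeal (MvPowerSeries (Fin 2) k)).map f := by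
  refine Ideal.exists_pow_le_of_le_radical_of_fg ?_ (IsNoetherian.noetherian _)
  rw [Ideal.radical_eq_sInf]
  refine le_sInf fun P ⟨hP, hPp⟩ => ?_
  haveI := hPp
  have h1 : (P.comap f).IsMaximal := by
    have h2 : maximalIdeal (MvPowerSeries (Fin 2) k) ≤ P.comap f := Ideal.map_le_iff_le_comap.1 hP
    rw [← (maximalIdeal.isMaximal _).eq_of_le (Ideal.comap_ne_top _ hPp.ne_top) h2]
    exact maximalIdeal.isMaximal _
  letI : Algebra (MvPowerSeries (Fin 2) k) A := f.toAlgebra
  haveI : Algebra.IsIntegral (MvPowerSeries (Fin 2) k) A := ⟨hfin.to_isIntegral⟩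
  exact (eq_maximalIdeal (Ideal.isMaximal_of_isIntegral_of_isMaximal_comap P h1)).ge

/-- Membership in a submodule over the series ring, tested modulo powers of the maximal ideal. -/
theorem mem_of_approx (f : MvPowerSeries (Fin 2) k →+* A) (hf : Function.Injective f) (hfin : f.Finite)
    (S : AddSubgroup A) (hS : ∀ t, ∀ a ∈ S, f t * a ∈ S) {z : A}
    (h : ∀ N : ℕ, ∃ s ∈ S, z - s ∈ maximalIdeal A ^ N) : z ∈ S := by
  letI : Algebra (MvPowerSeries (Fin 2) k) A := f.toAlgebra
  haveI : Module.Finite (MvPowerSeries (Fin 2) k) A := RingHom.finite_algebraMap.1 hfin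
  haveI := Groth.L01.PowSerReg.isRegularLocalRing k 2
  let S' : Submodule (MvPowerSeries (Fin 2) k) A :=
    { S with smul_mem' := fun t a ha => by rw [Algebra.smul_def]; exact hS t a ha }
  obtain ⟨e, he⟩ := exists_pow_le f hf hfin
  show z ∈ S'
  refine mem_of_forall_mem_sup S' fun N => ?_
  obtain ⟨s, hs, hzs⟩ := h (e * N)
  refine Submodule.mem_sup.2 ⟨s, hs, z - s, ?_, by abel⟩
  rw [Ideal.smul_top_eq_map, Submodule.restrictScalars_mem, Ideal.map_pow]
  rw [pow_mul] at hzs
  exact Ideal.pow_right_mono he N hzs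

/-- Membership of the images of series, tested on the monomials. -/
theorem map_mem_of_monomial (g : MvPowerSeries (Fin 2) k →+* A) (hgm : ∀ i, g (X i) ∈ maximalIdeal A)
    (f : MvPowerSeries (Fin 2) k →+* A) (hf : Function.Injective f) (hfin : f.Finite)
    (S : AddSubgroup A) (hS : ∀ t, ∀ a ∈ S, f t * a ∈ S) (x : MvPowerSeries (Fin 2) k)
    (h : ∀ d, coeff d x ≠ 0 → g (monomial d (coeff d x)) ∈ S) : g x ∈ S := by
  classical
  refine mem_of_approx f hf hfin S hS fun N => ?_
  let P := MvPowerSeries.truncTotal N x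
  refine ⟨∑ d ∈ P.support, g (monomial d (MvPolynomial.coeff d P)), sum_mem fun d hd => ?_, ?_⟩
  · have hc : MvPolynomial.coeff d P ≠ 0 := MvPolynomial.mem_support_iff.1 hd
    have hdN : d.degree < N := by
      by_contra hlt
      exact hc (MvPowerSeries.coeff_truncTotal_eq_zero _ (not_lt.1 hlt))
    rw [MvPowerSeries.coeff_truncTotal _ hdN] at hc ⊢
    exact h d hc
  · have hP : ∑ d ∈ P.support, g (monomial d (MvPolynomial.coeff d P)) = g (P : MvPowerSeries (Fin 2) k) := by
      conv_rhs => rw [P.as_sum]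
      rw [← MvPolynomial.coeToMvPowerSeries.ringHom_apply, map_sum, map_sum]
      exact Finset.sum_congr rfl fun d _ => by
        rw [MvPolynomial.coeToMvPowerSeries.ringHom_apply, MvPolynomial.coe_monomial]
    rw [hP, ← map_sub]
    have h1 := Ideal.mem_map_of_mem g (Groth.L12.sub_truncTotal_mem x N)
    rw [Ideal.map_pow, Ideal.map_span, ← Set.range_comp] at h1
    exact Ideal.pow_right_mono (Ideal.span_le.2 (by rintro _ ⟨i, rfl⟩; exact hgm i)) N h1

variable [IsAdicComplete (maximalIdeal A) A]

/-- An element of exponent one over the separable closure, inside the maximal ideal. -/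
theorem exists_theta (p : ℕ) [Fact p.Prime] [CharP k p] (f : MvPowerSeries (Fin 2) k →+* A)
    (hf : Function.Injective f) (hfin : f.Finite) (hKs : Ks f hf ≠ ⊤) :
    ∃ θ : A, θ ∈ maximalIdeal A ∧ algebraMap A (FractionRing A) θ ∉ Ks f hf ∧
      algebraMap A (FractionRing A) θ ^ p ∈ Ks f hf := by
  classical
  letI := (fldHom f hf).toAlgebra
  haveI := finite_fldHom f hf hfin
  let K := FractionRing (MvPowerSeries (Fin 2) k)
  let L := FractionRing A
  haveI : CharP (MvPowerSeries (Fin 2) k) p := charP_of_injective_ringHom (f := C) (fun a b h => by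
    simpa using congrArg constantCoeff h) p
  haveI : CharP K p := charP_of_injective_algebraMap (IsFractionRing.injective (MvPowerSeries (Fin 2) k) K) p
  haveI : CharP L p := charP_of_injective_algebraMap (algebraMap K L).injective p
  haveI : ExpChar L p := ExpChar.prime Fact.out
  haveI : ExpChar (separableClosure K L) p := ExpChar.prime Fact.out
  obtain ⟨z, hz⟩ : ∃ z : L, z ∉ Ks f hf := by
    by_contra! h
    exact hKs (eq_top_iff.2 fun z _ => h z)
  obtain ⟨n, hn⟩ := (isPurelyInseparable_iff_pow_mem (separableClosure K L) p).1 inferInstance z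
  have hex : ∃ n : ℕ, z ^ p ^ n ∈ Ks f hf := by
    obtain ⟨⟨w, hw⟩, hw'⟩ := hn
    exact ⟨n, hw' ▸ hw⟩
  have hn0 : Nat.find hex ≠ 0 := fun h0 => hz (by simpa [h0] using Nat.find_spec hex)
  let θ₀ : L := z ^ p ^ (Nat.find hex - 1)
  have hθ₀ : θ₀ ∉ Ks f hf := Nat.find_min hex (by omega)
  have hθ₀p : θ₀ ^ p ∈ Ks f hf := by
    rw [← pow_mul, ← pow_succ, Nat.sub_add_cancel (Nat.pos_of_ne_zero hn0)]
    exact Nat.find_spec hex
  obtain ⟨a, b, hb, hab⟩ := IsFractionRing.div_surjective (A := A) θ₀
  have hb0 : b ≠ 0 := nonZeroDivisors.ne_zero hb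
  letI algTA : Algebra (MvPowerSeries (Fin 2) k) A := f.toAlgebra
  haveI : Algebra.IsIntegral (MvPowerSeries (Fin 2) k) A := ⟨hfin.to_isIntegral⟩
  obtain ⟨c, hc, hc0⟩ := Submodule.exists_mem_ne_zero_of_ne_bot
    (Ideal.comap_ne_bot_of_integral_mem (R := MvPowerSeries (Fin 2) k) hb0 (Ideal.mem_span_singleton_self b)
      (Algebra.IsIntegral.isIntegral b))
  obtain ⟨w, hw⟩ := Ideal.mem_span_singleton'.1 hc
  change w * b = f c at hw
  haveI := isLocalHom_of_finite f hf hfin
  refine ⟨a * w * f (X 0), Ideal.mul_mem_left _ _ (map_nonunit f _ ?_), ?_, ?_⟩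
  · rw [Groth.L01.PowSerReg.maximalIdeal_eq]
    exact Ideal.subset_span ⟨0, rfl⟩
  all_goals
    have hfs : ∀ t, algebraMap A L (f t) ∈ Ks f hf := fun t => by
      have := (separableClosure K L).algebraMap_mem (algebraMap (MvPowerSeries (Fin 2) k) K t)
      rwa [show algebraMap K L (algebraMap _ K t) = algebraMap A L (f t) from fldHom_algebraMap f hf t] at this
    have heq : algebraMap A L (a * w * f (X 0)) = θ₀ * algebraMap A L (f (c * X 0)) := by
      have hbL : algebraMap A L b ≠ 0 := (map_ne_zero_iff _ (IsFractionRing.injective A L)).2 hb0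
      rw [← hab, map_mul f, ← hw]
      simp only [map_mul]
      rw [div_mul_eq_mul_div, eq_div_iff hbL]
      ring
    rw [heq]
  · intro hmem
    have hne : algebraMap A L (f (c * X 0)) ≠ 0 := by
      rw [map_ne_zero_iff _ (IsFractionRing.injective A L), map_ne_zero_iff _ hf]
      exact mul_ne_zero hc0 (X_ne_zero' 0)
    refine hθ₀ ?_
    have := mul_mem hmem (inv_mem (hfs (c * X 0)))
    rwa [mul_inv_cancel_right₀ hne] at this
  · rw [mul_pow]
    exact mul_mem hθ₀p (pow_mem (hfs _) p)
where
  X_ne_zero' (i : Fin 2) : (X i : MvPowerSeries (Fin 2) k) ≠ 0 := fun h => by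
    have := congrArg (coeff (Finsupp.single i 1)) h
    rw [coeff_index_single_self_X, map_zero] at this
    exact one_ne_zero this

/-- A series supported on multiples of `p` is killed by the partials. -/
theorem pderiv_eq_zero_of_dvd (p : ℕ) [Fact p.Prime] [CharP k p] {g : MvPowerSeries (Fin 2) k}
    (h : ∀ d, coeff d g ≠ 0 → ∀ i, p ∣ d i) (i : Fin 2) : pderiv k i g = 0 := by
  classical
  ext d
  rw [coeff_pderiv, map_zero]
  by_cases h0 : coeff (d + Finsupp.single i 1) g = 0
  · rw [h0, zero_mul]
  · have := h _ h0 i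
    rw [Finsupp.add_apply, Finsupp.single_eq_same] at this
    rw [show ((d i : k) + 1) = ((d i + 1 : ℕ) : k) by push_cast; rfl, (CharP.cast_eq_zero_iff k p _).2 this, mul_zero]

/-- A subfield without derivations over the base is separable. -/
theorem isSeparable_of_no_der {K L : Type u} [Field K] [Field L] [Algebra K L] [FiniteDimensional K L]
    (S : Subfield L) (hK : ∀ x : K, algebraMap K L x ∈ S)
    (hd : ∀ d : L → L, (∀ a ∈ S, ∀ b ∈ S, d (a + b) = d a + d b) →
      (∀ a ∈ S, ∀ b ∈ S, d (a * b) = a * d b + b * d a) →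
      (∀ x, d (algebraMap K L x) = 0) → ∀ z ∈ S, d z = 0) :
    ∀ z ∈ S, IsSeparable K z := by
  classical
  let E : IntermediateField K L := S.toIntermediateField hK
  have hder : ∀ D : Derivation K E E, D = 0 := fun D => by
    let d : L → L := fun z => if h : z ∈ S then ((D ⟨z, h⟩ : E) : L) else 0
    have hd' : ∀ {z} (h : z ∈ S), d z = ((D ⟨z, h⟩ : E) : L) := fun h => dif_pos h
    refine Derivation.ext fun z => Subtype.ext ?_
    show ((D z : E) : L) = 0
    rw [← hd' (z := (z : L)) z.2]
    refine hd d (fun a ha b hb => ?_) (fun a ha b hb => ?_) (fun x => ?_) _ z.2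
    · rw [hd' ha, hd' hb, hd' (add_mem ha hb)]
      exact congrArg Subtype.val (map_add D (⟨a, ha⟩ : E) ⟨b, hb⟩)
    · rw [hd' ha, hd' hb, hd' (mul_mem ha hb)]
      exact congrArg Subtype.val (D.leibniz (⟨a, ha⟩ : E) ⟨b, hb⟩)
    · rw [hd' (hK x), show (⟨_, hK x⟩ : E) = algebraMap K E x from rfl, D.map_algebraMap]
      rfl
  haveI : Algebra.FormallyUnramified K E := ⟨by
    refine subsingleton_of_forall_eq 0 fun ω => (Module.forall_dual_apply_eq_zero_iff E ω).1 fun l => ?_
    have := hder (KaehlerDifferential.linearMapEquivDerivation K E l)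
    rw [LinearEquiv.map_eq_zero_iff] at this
    rw [this, LinearMap.zero_apply]⟩
  haveI : Algebra.EssFiniteType K E := inferInstance
  haveI := Algebra.FormallyUnramified.isSeparable K E
  intro z hz
  let w : E := ⟨z, hz⟩
  have h1 : IsSeparable K w := Algebra.IsSeparable.isSeparable K w
  show (minpoly K (w : L)).Separable
  rw [← IntermediateField.minpoly_eq w]
  exact h1

/-- A finite extension inside `L` of the base, on which all derivations vanish, is separable. -/
theorem subset_Ks (f' : MvPowerSeries (Fin 2) k →+* A) (hf' : Function.Injective f') (hfin' : f'.Finite)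
    (S : Subfield (FractionRing A)) (hmem : ∀ t, algebraMap A (FractionRing A) (f' t) ∈ S)
    (hd : ∀ d : FractionRing A → FractionRing A, (∀ a ∈ S, ∀ b ∈ S, d (a + b) = d a + d b) →
      (∀ a ∈ S, ∀ b ∈ S, d (a * b) = a * d b + b * d a) →
      (∀ t, d (algebraMap A (FractionRing A) (f' t)) = 0) → ∀ z ∈ S, d z = 0) :
    ∀ z ∈ S, z ∈ Ks f' hf' := by
  let T := MvPowerSeries (Fin 2) k
  letI := (fldHom f' hf').toAlgebra
  haveI := finite_fldHom f' hf' hfin'
  have hK : ∀ x : FractionRing T, fldHom f' hf' x ∈ S := fun x => by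
    obtain ⟨a, b, -, rfl⟩ := IsFractionRing.div_surjective (A := T) x
    rw [map_div₀, fldHom_algebraMap, fldHom_algebraMap]
    exact div_mem (hmem a) (hmem b)
  intro z hz
  refine mem_separableClosure_iff.2 (isSeparable_of_no_der S hK (fun d h1 h2 h3 => hd d h1 h2 fun t => ?_) z hz)
  rw [← fldHom_algebraMap f' hf' t]
  exact h3 _

/-- Two elements of the maximal ideal primary to it give a finite injective map of series. -/
theorem finite_injective_eval (hdim : ringKrullDim A = 2) (f : MvPowerSeries (Fin 2) k →+* A)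
    (hf : Function.Injective f) (hfin : f.Finite) (s : Fin 2 → A) (hs : ∀ i, s i ∈ maximalIdeal A)
    (g : MvPowerSeries (Fin 2) k →+* A) (hgX : ∀ i, g (X i) = s i) (hgC : ∀ a, g (C a) = f (C a))
    {N : ℕ} (hN : maximalIdeal A ^ N ≤ Ideal.span (Set.range s)) : Function.Injective g ∧ g.Finite := by
  classical
  let T := MvPowerSeries (Fin 2) k
  haveI := Groth.L01.PowSerReg.isRegularLocalRing k 2
  haveI : IsDomain T := NoZeroDivisors.to_isDomain _
  haveI := isLocalHom_of_finite f hf hfin
  obtain ⟨G, hG⟩ : ∃ G : Finset A, ∀ a, ∃ c : A → T, a = ∑ b ∈ G, f (c b) * b := by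
    letI : Algebra T A := f.toAlgebra
    haveI : Module.Finite T A := RingHom.finite_algebraMap.1 hfin
    obtain ⟨G, hG⟩ := Module.Finite.fg_top (R := T) (M := A)
    refine ⟨G, fun a => ?_⟩
    obtain ⟨c, -, hc⟩ := Submodule.mem_span_finset.1 (hG ▸ Submodule.mem_top : a ∈ Submodule.span T (G : Set A))
    exact ⟨c, hc.symm⟩
  letI : Algebra T A := g.toAlgebra
  let I : Ideal T := Groth.L01.PowSerReg.varIdeal k 2
  haveI := Groth.L01.CohenFinite.isHausdorff_varIdeal k 2
  haveI : IsAdicComplete I T := {}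
  have hI : I.map g = Ideal.span (Set.range s) := by
    simp only [I, Groth.L01.PowSerReg.varIdeal, Ideal.map_span, ← Set.range_comp]
    exact congrArg (fun s => Ideal.span (Set.range s)) (funext hgX)
  haveI : IsHausdorff I A := by
    refine ⟨fun z hz => IsHausdorff.haus (I := maximalIdeal A) inferInstance z fun n => ?_⟩
    have := SModEq.zero.mp (hz n)
    rw [Ideal.smul_top_eq_map, Submodule.restrictScalars_mem, Ideal.map_pow] at this
    rw [SModEq.zero, smul_eq_mul, Ideal.mul_top]
    refine Ideal.pow_right_mono (hI.trans_le ?_) n this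
    rw [Ideal.span_le]; rintro _ ⟨i, rfl⟩; exact hs i
  have hfinite : Module.Finite T A := by
    refine Groth.Agent.S0544.result T I A ?_
    let P : Submodule T A := I • ⊤
    let E : Finset (Fin 2 →₀ ℕ) := Finset.Iic (Finsupp.equivFunOnFinite.symm fun _ => N)
    let G' : Finset A := (E ×ˢ G).image fun e => f (monomial e.1 (1 : k)) * e.2
    refine ⟨Submodule.fg_def.mpr ⟨P.mkQ '' (G' : Set A), G'.finite_toSet.image _, eq_top_iff.mpr fun y _ => ?_⟩⟩
    obtain ⟨a, rfl⟩ := Submodule.mkQ_surjective _ y
    obtain ⟨c, hc⟩ := hG a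
    rw [Submodule.span_image]
    suffices h : a ∈ Submodule.span T (G' : Set A) ⊔ P by
      obtain ⟨w, hw, r, hr, rfl⟩ := Submodule.mem_sup.1 h
      refine ⟨w, hw, ?_⟩
      rw [map_add, show (I • ⊤ : Submodule T A).mkQ r = 0 from (Submodule.Quotient.mk_eq_zero P).2 hr, add_zero]
    rw [hc]
    refine Submodule.sum_mem _ fun b hb => ?_
    rw [← sub_add_cancel (c b) ((MvPowerSeries.truncTotal N (c b) : MvPolynomial (Fin 2) k) : T), map_add f, add_mul]
    refine add_mem (Submodule.mem_sup_right ?_) (Submodule.mem_sup_left ?_)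
    · rw [show P = (I.map g).restrictScalars T from Ideal.smul_top_eq_map I, Submodule.restrictScalars_mem, hI]
      refine Ideal.mul_mem_right _ _ (hN ?_)
      have h1 := Ideal.mem_map_of_mem f (Groth.L12.sub_truncTotal_mem (c b) N)
      rw [Ideal.map_pow, Ideal.map_span, ← Set.range_comp] at h1
      refine Ideal.pow_right_mono (Ideal.span_le.2 ?_) N h1
      rintro _ ⟨i, rfl⟩
      refine map_nonunit f _ ?_
      rw [Groth.L01.PowSerReg.maximalIdeal_eq]
      exact Ideal.subset_span ⟨i, rfl⟩
    · rw [show ((MvPowerSeries.truncTotal N (c b) : MvPolynomial (Fin 2) k) : T) =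
          ∑ e ∈ (MvPowerSeries.truncTotal N (c b)).support,
            ((MvPolynomial.monomial e (MvPolynomial.coeff e (MvPowerSeries.truncTotal N (c b))) : MvPolynomial (Fin 2) k) : T) by
          simp only [← MvPolynomial.coeToMvPowerSeries.ringHom_apply]
          rw [← map_sum, ← MvPolynomial.as_sum], map_sum, Finset.sum_mul]
      refine Submodule.sum_mem _ fun e he => ?_
      rw [MvPolynomial.coe_monomial, show monomial e (MvPolynomial.coeff e (MvPowerSeries.truncTotal N (c b))) =
        C (MvPolynomial.coeff e (MvPowerSeries.truncTotal N (c b))) * monomial e (1 : k) by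
          rw [← monomial_zero_eq_C_apply, monomial_mul_monomial, zero_add, mul_one], map_mul, ← hgC, mul_assoc]
      refine Submodule.smul_mem _ (C _) (Submodule.subset_span ?_)
      refine Finset.mem_image.2 ⟨(e, b), Finset.mem_product.2 ⟨Finset.mem_Iic.2 fun l => ?_, hb⟩, rfl⟩
      have hlt : e.degree < N := by
        by_contra hlt
        exact MvPolynomial.mem_support_iff.1 he (MvPowerSeries.coeff_truncTotal_eq_zero _ (not_lt.1 hlt))
      exact (Finsupp.le_degree l e).trans hlt.le
  refine ⟨?_, RingHom.finite_algebraMap.mpr hfinite⟩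
  rw [RingHom.injective_iff_ker_eq_bot]
  by_contra hne
  obtain ⟨t, ht, ht0⟩ := Submodule.exists_mem_ne_zero_of_ne_bot hne
  haveI : (RingHom.ker g).IsPrime := RingHom.ker_isPrime g
  have h1 : ringKrullDim A ≤ ringKrullDim (T ⧸ RingHom.ker g) := by
    letI : Algebra (T ⧸ RingHom.ker g) A := (RingHom.kerLift g).toAlgebra
    haveI : Algebra.IsIntegral (T ⧸ RingHom.ker g) A := ⟨fun r =>
      RingHom.IsIntegral.tower_top (Ideal.Quotient.mk (RingHom.ker g)) (RingHom.kerLift g)
        ((RingHom.finite_algebraMap.mpr hfinite).to_isIntegral) r⟩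
    exact (Groth.L22.AffineDim.ringKrullDim_eq_of_isIntegral (RingHom.kerLift_injective g)).le
  have h2 : ringKrullDim (T ⧸ RingHom.ker g) + 1 ≤ ringKrullDim T := by
    refine le_trans (add_le_add ?_ le_rfl) (ringKrullDim_quotient_succ_le_of_nonZeroDivisor (r := t)
      (mem_nonZeroDivisors_of_ne_zero ht0))
    exact ringKrullDim_le_of_surjective (Ideal.Quotient.factor
      ((Ideal.span_singleton_le_iff_mem _).mpr ht)) (Ideal.Quotient.factor_surjective _)
  have h3 := (add_le_add (hdim.symm.trans_le h1) le_rfl).trans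
    (h2.trans (Groth.L01.PowSerReg.ringKrullDim_eq k 2).le)
  exact absurd h3 (by decide)

/-- The derivations of `L₁` killing the new base vanish. -/
theorem kills (p : ℕ) [Fact p.Prime] [CharP k p]
    (f : MvPowerSeries (Fin 2) k →+* A) (f' : MvPowerSeries (Fin 2) k →+* A)
    (hf' : Function.Injective f') (hfin' : f'.Finite) (hC : ∀ a, f' (C a) = f (C a))
    (hfm : ∀ l, f (X l) ∈ maximalIdeal A)
    (i j : Fin 2) (huniv : ∀ l : Fin 2, l = i ∨ l = j) (hu1 : f' (X 1) = f (X i))
    (S : Subfield (FractionRing A)) (hS : ∀ t, algebraMap A (FractionRing A) (f t) ∈ S)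
    (hS' : ∀ t, algebraMap A (FractionRing A) (f' t) ∈ S)
    {α : FractionRing A} (hα : ∃ β ∈ S, β ^ p = α) (P : Polynomial (MvPowerSeries (Fin 2) k)) {n : ℕ}
    (hn : P.natDegree < n) (hroot : Polynomial.eval₂ ((algebraMap A (FractionRing A)).comp f) α P = 0)
    (hj : ∑ l ∈ Finset.range n, algebraMap A (FractionRing A) (f (pderiv k j (P.coeff l))) * α ^ l ≠ 0)
    (d : FractionRing A → FractionRing A) (hadd : ∀ a ∈ S, ∀ b ∈ S, d (a + b) = d a + d b)
    (hmul : ∀ a ∈ S, ∀ b ∈ S, d (a * b) = a * d b + b * d a)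
    (hd : ∀ t, d (algebraMap A (FractionRing A) (f' t)) = 0) :
    ∀ t, d (algebraMap A (FractionRing A) (f t)) = 0 := by
  classical
  haveI : IsDomain (MvPowerSeries (Fin 2) k) := NoZeroDivisors.to_isDomain _
  let T := MvPowerSeries (Fin 2) k
  let L := FractionRing A
  let ι := algebraMap A L
  let fL : T →+* L := ι.comp f
  have hd0 : d 0 = 0 := by simpa using hadd 0 S.zero_mem 0 S.zero_mem
  have hd1 : d 1 = 0 := by simpa using hmul 1 S.one_mem 1 S.one_mem
  have hdpow : ∀ a ∈ S, ∀ m : ℕ, d (a ^ m) = (m : L) * a ^ (m - 1) * d a := fun a ha m => by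
    induction m with
    | zero => simp [hd1]
    | succ m ih =>
      rw [pow_succ, hmul _ (pow_mem ha m) _ ha, ih]
      rcases m with _ | m
      · simp
      · simp only [Nat.add_sub_cancel]; push_cast; ring
  haveI : CharP L p := charP_of_injective_ringHom (f := fL.comp C) (fun a b h => by
    have h2 : f' (C a) = f' (C b) := by
      rw [hC, hC]; exact IsFractionRing.injective A L h
    simpa using congrArg constantCoeff (hf' h2)) p
  have hdp : ∀ a ∈ S, d (a ^ p) = 0 := fun a ha => by
    rw [hdpow a ha p, CharP.cast_eq_zero, zero_mul, zero_mul]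
  have hsum : ∀ {β : Type} (s : Finset β) (g : β → L), (∀ b ∈ s, g b ∈ S) → d (∑ b ∈ s, g b) = ∑ b ∈ s, d (g b) := by
    intro β s g hg
    induction s using Finset.induction_on with
    | empty => simpa using hd0
    | insert b s hb ih =>
      rw [Finset.sum_insert hb, Finset.sum_insert hb, hadd _ (hg b (Finset.mem_insert_self b s)) _
        (sum_mem fun c hc => hg c (Finset.mem_insert_of_mem hc)), ih fun c hc => hg c (Finset.mem_insert_of_mem hc)]
  -- the series supported on multiples of `p`
  let Z : AddSubgroup A :=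
    { carrier := {a | ι a ∈ S ∧ d (ι a) = 0}
      zero_mem' := ⟨by simp, by simpa using hd0⟩
      add_mem' := fun {a b} ha hb => by
        refine ⟨?_, ?_⟩
        · rw [map_add]; exact add_mem ha.1 hb.1
        · rw [map_add, hadd _ ha.1 _ hb.1, ha.2, hb.2, add_zero]
      neg_mem' := fun {a} ha => by
        refine ⟨?_, ?_⟩
        · rw [map_neg]; exact neg_mem ha.1
        · have := hadd _ ha.1 _ (neg_mem ha.1)
          rw [add_neg_cancel, hd0, ha.2, zero_add] at this
          rw [map_neg]; exact this.symm }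
  have hZ : ∀ h : T, (∀ e, coeff e h ≠ 0 → ∀ l, p ∣ e l) → d (fL h) = 0 := fun h hh => by
    refine (map_mem_of_monomial f hfm f' hf' hfin' Z (fun t a ha => ?_) h fun e he => ?_).2
    · refine ⟨?_, ?_⟩
      · rw [map_mul]; exact mul_mem (hS' t) ha.1
      · rw [map_mul, hmul _ (hS' t) _ ha.1, hd, ha.2, mul_zero, mul_zero, add_zero]
    · refine ⟨hS _, ?_⟩
      have hq : e = p • e.mapRange (· / p) (Nat.zero_div p) := Finsupp.ext fun l => by
        simp [Nat.mul_div_cancel' (hh e he l)]
      rw [show monomial e (coeff e h) = C (coeff e h) * monomial e (1 : k) by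
        rw [← monomial_zero_eq_C_apply, monomial_mul_monomial, zero_add, mul_one], map_mul, ← hC]
      conv_lhs => rw [hq]
      rw [show monomial (p • e.mapRange (· / p) (Nat.zero_div p)) (1 : k) =
        (monomial (e.mapRange (· / p) (Nat.zero_div p)) 1) ^ p by rw [monomial_pow, one_pow], map_pow, map_mul,
        map_pow, hmul _ (hS' _) _ (pow_mem (hS _) p), hd, hdp _ (hS _), mul_zero, mul_zero, add_zero]
  let Δ : T → L := fun t => d (fL t) - fL (pderiv k i t) * d (fL (X i)) - fL (pderiv k j t) * d (fL (X j))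
  have hij : i ≠ j := fun h => by
    have h0 := huniv 0; have h1 := huniv 1
    rw [← h] at h0 h1
    simp only [or_self] at h0 h1
    exact absurd (h0.trans h1.symm) (by decide)
  have hΔmul : ∀ a b, Δ (a * b) = fL a * Δ b + fL b * Δ a := fun a b => by
    simp only [Δ, map_mul, Derivation.leibniz, map_add, smul_eq_mul]
    rw [hmul (fL a) (hS a) (fL b) (hS b)]
    ring
  have hΔX : ∀ l, Δ (X l) = 0 := fun l => by
    rcases huniv l with rfl | rfl
    · simp [Δ, pderiv_X_of_ne hij]
    · simp [Δ, pderiv_X_of_ne hij.symm]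
  have hΔ1 : Δ 1 = 0 := by simp [Δ, hd1]
  have hΔpow : ∀ l (m : ℕ), Δ (X l ^ m) = 0 := fun l m => by
    induction m with
    | zero => rw [pow_zero]; exact hΔ1
    | succ m ih => rw [pow_succ, hΔmul, ih, hΔX, mul_zero, mul_zero, add_zero]
  have hformula : ∀ t, d (fL t) = fL (pderiv k i t) * d (fL (X i)) + fL (pderiv k j t) * d (fL (X j)) := fun t => by
    obtain ⟨h, hh, rfl⟩ := exists_decomp p t
    have h0 : ∀ e : Fin p × Fin p, Δ (X 0 ^ (e.1 : ℕ) * X 1 ^ (e.2 : ℕ) * h e) = 0 := fun e => by
      rw [hΔmul, hΔmul, hΔpow, hΔpow, mul_zero, mul_zero, add_zero, mul_zero, add_zero,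
        show Δ (h e) = 0 by simp [Δ, hZ _ (hh e), pderiv_eq_zero_of_dvd p (hh e)], mul_zero]
    have hSL : ∀ t, fL t ∈ S := hS
    rw [map_sum fL, hsum _ _ fun e _ => hSL _, map_sum, map_sum, map_sum, map_sum, Finset.sum_mul, Finset.sum_mul,
      ← Finset.sum_add_distrib]
    refine Finset.sum_congr rfl fun e _ => ?_
    have := h0 e
    simp only [Δ] at this
    linear_combination this
  have hi : d (fL (X i)) = 0 := by
    show d (ι (f (X i))) = 0
    rw [← hu1]; exact hd _
  have hja : d (fL (X j)) = 0 := by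
    obtain ⟨β, hβ, rfl⟩ := hα
    have hβp : β ^ p ∈ S := pow_mem hβ p
    have h1 := congrArg d hroot
    have hSL : ∀ t, fL t ∈ S := hS
    rw [hd0, Polynomial.eval₂_eq_sum_range' _ hn,
      hsum (Finset.range n) (fun l => fL (P.coeff l) * (β ^ p) ^ l) fun l _ => mul_mem (hSL _) (pow_mem hβp l)] at h1
    have h2 : ∀ l : ℕ, d (fL (P.coeff l) * (β ^ p) ^ l) =
        d (fL (X j)) * (ι (f (pderiv k j (P.coeff l))) * (β ^ p) ^ l) := fun l => by
      rw [hmul _ (hSL _) _ (pow_mem hβp l), hdpow _ hβp, hdp _ hβ, mul_zero, mul_zero, zero_add, hformula, hi,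
        mul_zero, zero_add]
      show (β ^ p) ^ l * (ι (f _) * _) = _
      ring
    rw [Finset.sum_congr rfl fun l _ => h2 l, ← Finset.mul_sum] at h1
    exact (mul_eq_zero.1 h1).resolve_right hj
  intro t
  show d (fL t) = 0
  rw [hformula, hi, hja, mul_zero, mul_zero, add_zero]

/-- One step decreasing the inseparable degree. -/
theorem exists_step (p : ℕ) [Fact p.Prime] [CharP k p] (hdim : ringKrullDim A = 2)
    (f₀ : MvPowerSeries (Fin 2) k →+* A) (hf₀ : Function.Injective f₀) (hfin₀ : f₀.Finite)
    (hKs : Ks f₀ hf₀ ≠ ⊤) :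
    ∃ (f' : MvPowerSeries (Fin 2) k →+* A) (hf' : Function.Injective f'), f'.Finite ∧ Ks f₀ hf₀ < Ks f' hf' := by
  classical
  let T := MvPowerSeries (Fin 2) k
  let K := FractionRing T
  let L := FractionRing A
  haveI := Groth.L01.PowSerReg.isRegularLocalRing k 2
  haveI : IsDomain T := NoZeroDivisors.to_isDomain _
  letI := (fldHom f₀ hf₀).toAlgebra
  haveI := finite_fldHom f₀ hf₀ hfin₀
  obtain ⟨θ, hθm, hθs, hθp⟩ := exists_theta p f₀ hf₀ hfin₀ hKs
  let θL : L := algebraMap A L θ
  let α : L := θL ^ p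
  have hαsep : IsSeparable K α := mem_separableClosure_iff.1 hθp
  have hαint : IsIntegral K α := hαsep.isIntegral
  obtain ⟨c, hc, hcP⟩ := IsLocalization.integerNormalization_spec (nonZeroDivisors T) (minpoly K α)
  let P := IsLocalization.integerNormalization (nonZeroDivisors T) (minpoly K α)
  let fL : T →+* L := (algebraMap A L).comp f₀
  have hfL : ∀ t, algebraMap K L (algebraMap T K t) = fL t := fun t => fldHom_algebraMap f₀ hf₀ t
  have hfL' : (algebraMap K L).comp (algebraMap T K) = fL := RingHom.ext hfL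
  have hTK : Function.Injective (algebraMap T K) := IsFractionRing.injective T K
  have hc0 : c ≠ 0 := nonZeroDivisors.ne_zero hc
  have hcK : algebraMap T K c ≠ 0 := (map_ne_zero_iff _ hTK).2 hc0
  have hPmap : P.map (algebraMap T K) = Polynomial.C (algebraMap T K c) * minpoly K α := by
    rw [hcP, ← Polynomial.smul_eq_C_mul, algebraMap_smul]
  let d := (minpoly K α).natDegree
  have hdeg : P.natDegree = d := by
    rw [← Polynomial.natDegree_map_eq_of_injective hTK P, hPmap, Polynomial.natDegree_C_mul hcK]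
  have hev : ∀ Q : Polynomial T, Polynomial.eval₂ fL α Q = Polynomial.aeval α (Q.map (algebraMap T K)) := fun Q => by
    rw [Polynomial.aeval_def, Polynomial.eval₂_map, hfL']
  have hroot : Polynomial.eval₂ fL α P = 0 := by rw [hev, hPmap, map_mul, minpoly.aeval, mul_zero]
  have hroot' : Polynomial.eval₂ fL α P.derivative ≠ 0 := by
    rw [hev, ← Polynomial.derivative_map, hPmap, Polynomial.derivative_C_mul, map_mul, Polynomial.aeval_C]
    exact mul_ne_zero ((map_ne_zero _).2 hcK) (hαsep.aeval_derivative_ne_zero (minpoly.aeval K α))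
  have hmin : ∀ Q : Polynomial T, Q.natDegree < d → Polynomial.eval₂ fL α Q = 0 → Q = 0 := fun Q hQ h => by
    rw [← Polynomial.map_eq_zero_iff hTK]
    by_contra hne
    have h1 := Polynomial.natDegree_le_natDegree (minpoly.degree_le_of_ne_zero K α hne (hev Q ▸ h))
    rw [Polynomial.natDegree_map_eq_of_injective hTK] at h1
    exact absurd (h1.trans_lt hQ) (lt_irrefl _)
  have hd0 : 0 < d := minpoly.natDegree_pos hαint
  -- a coefficient which is not a `p`-th power
  obtain ⟨i₀, hi₀⟩ : ∃ i, ¬ ∃ h, h ^ p = P.coeff i * P.coeff d ^ (p - 1) := by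
    by_contra! hall
    choose h hh using hall
    haveI : CharP T p := charP_of_injective_ringHom (f := C) (fun a b h => by
      simpa using congrArg constantCoeff h) p
    haveI : CharP K p := charP_of_injective_algebraMap hTK p
    haveI : CharP L p := charP_of_injective_algebraMap (algebraMap K L).injective p
    haveI : ExpChar L p := ExpChar.prime Fact.out
    let H : Polynomial K := ∑ i ∈ Finset.range (d + 1), Polynomial.monomial i (algebraMap T K (h i))
    have hH : Polynomial.aeval θL H = 0 := by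
      refine eq_zero_of_pow_eq_zero (n := p) ?_
      rw [map_sum, sum_pow_char]
      have e : ∀ i, (Polynomial.aeval θL (Polynomial.monomial i (algebraMap T K (h i)))) ^ p =
          fL (P.coeff d ^ (p - 1)) * (fL (P.coeff i) * α ^ i) := fun i => by
        rw [Polynomial.aeval_monomial, hfL, mul_pow, ← map_pow fL, hh, map_mul fL, ← pow_mul, mul_comm i p, pow_mul]
        show _ * α ^ i = _
        ring
      rw [Finset.sum_congr rfl fun i _ => e i, ← Finset.mul_sum]
      rw [show ∑ i ∈ Finset.range (d + 1), fL (P.coeff i) * α ^ i = Polynomial.eval₂ fL α P by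
        rw [Polynomial.eval₂_eq_sum_range, hdeg], hroot, mul_zero]
    have hHd : H.coeff d ≠ 0 := by
      have hPd : P.coeff d ≠ 0 := by
        rw [← hdeg]
        exact Polynomial.leadingCoeff_ne_zero.2 fun h0 => by rw [h0, Polynomial.natDegree_zero] at hdeg; omega
      simp only [H, Polynomial.finsetSum_coeff, Polynomial.coeff_monomial, Finset.sum_ite_eq',
        Finset.mem_range, Nat.lt_succ_self, if_true]
      rw [map_ne_zero_iff _ hTK]
      intro h0
      have := hh d
      rw [h0, zero_pow (Fact.out : p.Prime).ne_zero] at this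
      exact mul_ne_zero hPd (pow_ne_zero _ hPd) this.symm
    have hH0 : H ≠ 0 := fun h0 => hHd (by rw [h0, Polynomial.coeff_zero])
    have hθint : IsIntegral K θL := IsIntegral.of_finite K θL
    have hle : IntermediateField.adjoin K {α} ≤ IntermediateField.adjoin K {θL} :=
      IntermediateField.adjoin_simple_le_iff.2 (pow_mem (IntermediateField.mem_adjoin_simple_self K θL) p)
    have heq := IntermediateField.eq_of_le_of_finrank_le hle (by
      rw [IntermediateField.adjoin.finrank hθint, IntermediateField.adjoin.finrank hαint]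
      refine (Polynomial.natDegree_le_natDegree (minpoly.degree_le_of_ne_zero K θL hH0 hH)).trans ?_
      refine Polynomial.natDegree_sum_le_of_forall_le _ _ fun i hi => (Polynomial.natDegree_monomial_le _).trans ?_
      exact Nat.lt_succ_iff.1 (Finset.mem_range.1 hi))
    refine hθs ?_
    have hsub : IntermediateField.adjoin K {α} ≤ separableClosure K L :=
      IntermediateField.adjoin_simple_le_iff.2 hθp
    exact hsub (heq ▸ IntermediateField.mem_adjoin_simple_self K θL)
  obtain ⟨φ, j, hφj⟩ := exists_change p hi₀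
  -- the new coordinates
  let f : T →+* A := f₀.comp φ.symm.toRingHom
  have hfφ : ∀ t, f (φ t) = f₀ t := fun t => congrArg f₀ (φ.symm_apply_apply t)
  have hf : Function.Injective f := hf₀.comp φ.symm.injective
  have hfinf : f.Finite := hfin₀.comp (RingHom.Finite.of_surjective _ φ.symm.surjective)
  let P₁ : Polynomial T := P.map φ.toRingHom
  let fL₁ : T →+* L := (algebraMap A L).comp f
  have hfL₁ : fL₁.comp φ.toRingHom = fL := RingHom.ext fun t => congrArg (algebraMap A L) (hfφ t)
  have hroot₁ : Polynomial.eval₂ fL₁ α P₁ = 0 := by rw [Polynomial.eval₂_map, hfL₁, hroot]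
  have hPj : ∑ l ∈ Finset.range (d + 1), algebraMap A L (f (pderiv k j (P₁.coeff l))) * α ^ l ≠ 0 := by
    intro h0
    let Q : Polynomial T := ∑ i ∈ Finset.range (d + 1), Polynomial.monomial i
      (P.coeff d * φ.symm (pderiv k j (φ (P.coeff i))) - φ.symm (pderiv k j (φ (P.coeff d))) * P.coeff i)
    have hcoef : ∀ i, Q.coeff i = if i < d + 1 then
        P.coeff d * φ.symm (pderiv k j (φ (P.coeff i))) - φ.symm (pderiv k j (φ (P.coeff d))) * P.coeff i else 0 :=
      fun i => by simp [Q, Polynomial.finsetSum_coeff, Polynomial.coeff_monomial]; split_ifs <;> simp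
    have hQd : Q.natDegree < d := by
      refine lt_of_le_of_lt (Polynomial.natDegree_le_iff_coeff_eq_zero.2 fun i hi => ?_) (Nat.pred_lt hd0.ne')
      rw [hcoef]
      split_ifs with h
      · rw [Nat.pred_eq_sub_one] at hi
        rw [show i = d by omega]; ring
      · rfl
    have hQ0 : Polynomial.eval₂ fL α Q = 0 := by
      have hP0 : ∑ l ∈ Finset.range (d + 1), fL (P.coeff l) * α ^ l = 0 := by
        rw [← Polynomial.eval₂_eq_sum_range' fL (by omega : P.natDegree < d + 1), hroot]
      have e : Polynomial.eval₂ fL α Q = fL (P.coeff d) *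
          ∑ l ∈ Finset.range (d + 1), algebraMap A L (f (pderiv k j (P₁.coeff l))) * α ^ l -
          fL (φ.symm (pderiv k j (φ (P.coeff d)))) * ∑ l ∈ Finset.range (d + 1), fL (P.coeff l) * α ^ l := by
        simp only [Q, Polynomial.eval₂_finsetSum, Polynomial.eval₂_monomial]
        erw [Finset.mul_sum, Finset.mul_sum, ← Finset.sum_sub_distrib]
        refine Finset.sum_congr rfl fun i _ => ?_
        rw [map_sub, map_mul, map_mul, Polynomial.coeff_map]
        show _ = fL _ * (fL (φ.symm (pderiv k j (φ (P.coeff i)))) * α ^ i) - _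
        ring
      rw [e, h0, hP0, mul_zero, mul_zero, sub_zero]
    have hQ := congrArg φ (congrArg (fun R => Polynomial.coeff R i₀) (hmin Q hQd hQ0))
    simp only [Polynomial.coeff_zero, map_zero, hcoef] at hQ
    refine hφj ?_
    rw [map_mul φ, map_pow φ, Derivation.leibniz, Derivation.leibniz_pow, smul_eq_mul, smul_eq_mul,
      nsmul_eq_mul, Nat.cast_sub (Fact.out : p.Prime).one_le, show ((p : ℕ) : T) = C ((p : ℕ) : k) by rw [map_natCast],
      CharP.cast_eq_zero, map_zero, Nat.cast_one, zero_sub]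
    split_ifs at hQ with h
    · rw [map_sub φ, map_mul φ, map_mul φ, φ.apply_symm_apply, φ.apply_symm_apply] at hQ
      have hp2 := (Fact.out : p.Prime).two_le
      rw [show p - 1 = p - 1 - 1 + 1 by omega, pow_succ, show p - 1 - 1 + 1 - 1 = p - 1 - 1 by omega]
      linear_combination (φ (P.coeff d) ^ (p - 1 - 1)) * hQ
    · rw [Polynomial.coeff_eq_zero_of_natDegree_lt (p := P) (n := i₀) (by omega), map_zero, map_zero]
      ring
  -- the new parameters
  obtain ⟨i, hij⟩ : ∃ i : Fin 2, i ≠ j := ⟨1 - j, by fin_cases j <;> decide⟩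
  have huniv : ∀ l : Fin 2, l = i ∨ l = j := fun l => by omega
  haveI := isLocalHom_of_finite f hf hfinf
  have hXm : ∀ l : Fin 2, f (X l) ∈ maximalIdeal A := fun l => map_nonunit f _ (by
    rw [Groth.L01.PowSerReg.maximalIdeal_eq]; exact Ideal.subset_span ⟨l, rfl⟩)
  let v := f (X i)
  let x := f (X j)
  have hv0 : v ≠ 0 := (map_ne_zero_iff _ hf).2 (exists_theta.X_ne_zero' i)
  have hnotboth : ∀ Q : Ideal A, Q.IsPrime → v ∈ Q → x ∈ Q → Q = maximalIdeal A := fun Q hQ hvQ hxQ => by
    have h1 : maximalIdeal T ≤ Q.comap f := by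
      rw [Groth.L01.PowSerReg.maximalIdeal_eq, Groth.L01.PowSerReg.varIdeal, Ideal.span_le]
      rintro _ ⟨l, rfl⟩
      rcases huniv l with rfl | rfl
      · exact hvQ
      · exact hxQ
    letI : Algebra T A := f.toAlgebra
    haveI : Algebra.IsIntegral T A := ⟨hfinf.to_isIntegral⟩
    haveI := hQ
    have h2 : (Q.comap f).IsMaximal := by
      rw [← (maximalIdeal.isMaximal _).eq_of_le (Ideal.comap_ne_top _ hQ.ne_top) h1]
      exact maximalIdeal.isMaximal _
    exact eq_maximalIdeal (Ideal.isMaximal_of_isIntegral_of_isMaximal_comap Q h2)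
  have hfinS := (Ideal.span {v}).finite_minimalPrimes_of_isNoetherianRing A
  have hm_notmin : maximalIdeal A ∉ (Ideal.span {v}).minimalPrimes := fun hm => by
    have h1 := Ideal.height_le_one_of_isPrincipal_of_mem_minimalPrimes (Ideal.span {v}) (maximalIdeal A) hm
    have h2 : ((maximalIdeal A).height : WithBot ℕ∞) = 2 := by rw [maximalIdeal_height_eq_ringKrullDim, hdim]
    have h3 : (maximalIdeal A).height = 2 := WithBot.coe_inj.1 (h2.trans rfl)
    rw [h3] at h1
    exact absurd h1 (by decide)
  obtain ⟨M, hM0, hM⟩ : ∃ M, 0 < M ∧ ∀ Q ∈ (Ideal.span {v}).minimalPrimes, θ + x ^ M ∉ Q := by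
    by_contra! hall
    choose Q hQmem hQin using fun M : ℕ => hall (M + 1) M.succ_pos
    haveI := hfinS.to_subtype
    obtain ⟨M, M', hne, heq⟩ := Finite.exists_ne_map_eq_of_infinite
      (fun M => (⟨Q M, hQmem M⟩ : (Ideal.span {v}).minimalPrimes))
    have heq' : Q M = Q M' := congrArg Subtype.val heq
    wlog hlt : M < M' generalizing M M'
    · exact this M' M hne.symm heq.symm heq'.symm (lt_of_le_of_ne (not_lt.1 hlt) hne.symm)
    haveI := (hQmem M).1.1
    have h1 : x ^ (M + 1) * (1 - x ^ (M' - M)) ∈ Q M := by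
      have := sub_mem (hQin M) (heq' ▸ hQin M')
      convert this using 1
      rw [mul_sub, mul_one, ← pow_add, show M + 1 + (M' - M) = M' + 1 by omega]
      ring
    have hu : IsUnit (1 - x ^ (M' - M)) :=
      isUnit_one_sub_self_of_mem_nonunits _ (Ideal.pow_mem_of_mem _ (hXm j) _ (by omega))
    have h2 := ((hQmem M).1.1.mem_or_mem h1).resolve_right fun h => (hQmem M).1.1.ne_top
      (Ideal.eq_top_of_isUnit_mem _ h hu)
    have h3 := hnotboth (Q M) (hQmem M).1.1 ((hQmem M).1.2 (Ideal.mem_span_singleton_self v))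
      ((hQmem M).1.1.mem_of_pow_mem _ h2)
    exact hm_notmin (h3 ▸ hQmem M)
  let u := θ + x ^ M
  have hum : u ∈ maximalIdeal A := add_mem hθm (Ideal.pow_mem_of_mem _ (hXm j) M hM0)
  let F : k →+* A := f.comp C
  letI : Algebra k A := F.toAlgebra
  let s : Fin 2 → A := ![u, v]
  obtain ⟨ψ, hψ⟩ := Groth.L12.exists_evalPS (R := k) (maximalIdeal A) s (fun l => by
    fin_cases l
    · exact hum
    · exact hXm i)
  let f' : T →+* A := ψ.toRingHom
  have hψC : ∀ a, f' (C a) = f (C a) := ψ.commutes
  have hrad : ∃ N, maximalIdeal A ^ N ≤ Ideal.span (Set.range s) := by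
    refine Ideal.exists_pow_le_of_le_radical_of_fg ?_ (IsNoetherian.noetherian _)
    rw [Ideal.radical_eq_sInf]
    refine le_sInf fun Q ⟨hQ, hQp⟩ => ?_
    haveI := hQp
    have huQ : u ∈ Q := hQ (Ideal.subset_span ⟨0, rfl⟩)
    have hvQ : v ∈ Q := hQ (Ideal.subset_span ⟨1, rfl⟩)
    obtain ⟨Q', hQ', hQ'le⟩ := Ideal.exists_minimalPrimes_le
      ((Ideal.span_singleton_le_iff_mem Q).2 hvQ)
    haveI := hQ'.1.1
    have hne : Q' ≠ Q := fun h => hM Q' hQ' (h ▸ huQ)
    refine le_of_eq (Eq.symm (eq_of_le_of_not_lt (le_maximalIdeal hQp.ne_top) fun hlt => ?_))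
    have e0 : (⊥ : Ideal A) < Q' := bot_lt_iff_ne_bot.2 fun h => hv0 (by
      have := hQ'.1.2 (Ideal.mem_span_singleton_self v)
      rwa [h, Ideal.mem_bot] at this)
    haveI : (⊥ : Ideal A).IsPrime := Ideal.isPrime_bot
    have g1 := (⊥ : Ideal A).height_add_one_le_of_lt_of_isPrime e0
    have g2 := Q'.height_add_one_le_of_lt_of_isPrime (lt_of_le_of_ne hQ'le hne)
    have g3 := Q.height_add_one_le_of_lt_of_isPrime hlt
    have h2 : ((maximalIdeal A).height : WithBot ℕ∞) = 2 := by rw [maximalIdeal_height_eq_ringKrullDim, hdim]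
    have h3 : (maximalIdeal A).height = 2 := WithBot.coe_inj.1 (h2.trans rfl)
    have hbot : (⊥ : Ideal A).height = 0 := by simp
    rw [h3] at g3
    rw [hbot, zero_add] at g1
    exact absurd ((add_le_add (add_le_add g1 le_rfl |>.trans g2) le_rfl).trans g3) (by decide)
  obtain ⟨N, hN⟩ := hrad
  have hsm : ∀ l, s l ∈ maximalIdeal A := fun l => by
    fin_cases l
    · exact hum
    · exact hXm i
  obtain ⟨hf', hfin'⟩ := finite_injective_eval hdim f hf hfinf s hsm f' hψ hψC hN
  refine ⟨f', hf', hfin', ?_⟩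
  -- comparison of the fields
  let L₁ : IntermediateField K L := IntermediateField.adjoin K ((separableClosure K L : Set L) ∪ {θL})
  have hKL₁ : ∀ t, algebraMap A L (f t) ∈ L₁ := fun t => by
    rw [show algebraMap A L (f t) = fL (φ.symm t) from rfl, ← hfL]
    exact L₁.algebraMap_mem _
  have hθL₁ : θL ∈ L₁ := IntermediateField.subset_adjoin _ _ (Or.inr rfl)
  have hmem' : ∀ t, algebraMap A L (f' t) ∈ L₁ := by
    let S : AddSubgroup A := L₁.toSubfield.toAddSubgroup.comap (algebraMap A L).toAddMonoidHom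
    intro t
    refine map_mem_of_monomial f' (fun l => ?_) f hf hfinf S (fun t a ha => ?_) t (fun m _ => ?_)
    · show ψ (X l) ∈ _
      rw [hψ]
      fin_cases l
      · exact hum
      · exact hXm i
    · show algebraMap A L (f t * a) ∈ L₁
      rw [map_mul]
      exact mul_mem (hKL₁ t) ha
    · show algebraMap A L (f' _) ∈ L₁
      rw [show monomial m (coeff m t) = C (coeff m t) * monomial m (1 : k) by
          rw [← monomial_zero_eq_C_apply, monomial_mul_monomial, zero_add, mul_one],
        map_mul f', hψC, map_mul]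
      refine mul_mem (hKL₁ _) ?_
      rw [monomial_one_eq, map_finsuppProd, map_finsuppProd]
      refine prod_mem fun l _ => ?_
      show algebraMap A L (f' (X l ^ m l)) ∈ L₁
      rw [map_pow, map_pow, show f' (X l) = s l from hψ l]
      refine pow_mem ?_ _
      fin_cases l
      · show algebraMap A L (θ + x ^ M) ∈ L₁
        rw [map_add, map_pow]
        exact add_mem hθL₁ (pow_mem (hKL₁ _) M)
      · exact hKL₁ _
  have key : ∀ z ∈ L₁, z ∈ Ks f' hf' := by
    refine subset_Ks f' hf' hfin' L₁.toSubfield hmem' fun d' hadd hmul hd' => ?_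
    have hT : ∀ t, d' (algebraMap A L (f t)) = 0 :=
      kills p f f' hf' hfin' hψC hXm i j huniv (hψ 1) L₁.toSubfield hKL₁ hmem' ⟨θL, hθL₁, rfl⟩ P₁
        (n := d + 1) (Nat.lt_succ_of_le (Polynomial.natDegree_map_le.trans hdeg.le)) hroot₁ hPj d' hadd hmul hd'
    have hd0 : d' 0 = 0 := by simpa using hadd 0 L₁.zero_mem 0 L₁.zero_mem
    have hd1 : d' 1 = 0 := by simpa using hmul 1 L₁.one_mem 1 L₁.one_mem
    have hinv : ∀ a ∈ L₁, d' a = 0 → d' a⁻¹ = 0 := fun a ha h => by
      rcases eq_or_ne a 0 with rfl | ha0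
      · rw [inv_zero]; exact hd0
      · have h1 := hmul a ha a⁻¹ (inv_mem ha)
        rw [mul_inv_cancel₀ ha0, hd1, h, mul_zero, add_zero] at h1
        exact (mul_eq_zero.1 h1.symm).resolve_left ha0
    have hK : ∀ x : K, d' (algebraMap K L x) = 0 := fun x => by
      obtain ⟨a, b, -, rfl⟩ := IsFractionRing.div_surjective (A := T) x
      have ha : ∀ t, d' (algebraMap K L (algebraMap T K t)) = 0 := fun t => by
        rw [hfL]
        show d' (algebraMap A L (f₀ t)) = 0
        rw [← hfφ]; exact hT _
      rw [map_div₀, div_eq_mul_inv, hmul _ (L₁.algebraMap_mem _) _ (inv_mem (L₁.algebraMap_mem _)), ha,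
        hinv _ (L₁.algebraMap_mem _) (ha b), mul_zero, mul_zero, add_zero]
    let D : Derivation K L₁ L := Derivation.mk'
      { toFun := fun z => d' z
        map_add' := fun a b => hadd _ a.2 _ b.2
        map_smul' := fun x a => by
          show d' (((x • a : L₁)) : L) = x • d' (a : L)
          rw [IntermediateField.coe_smul, Algebra.smul_def, Algebra.smul_def,
            hmul _ (L₁.algebraMap_mem x) _ a.2, hK, mul_zero, add_zero] }
      (fun a b => hmul _ a.2 _ b.2)
    have hgen : ∀ z ∈ ((separableClosure K L : Set L) ∪ {θL}), d' z = 0 := by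
      rintro z (hz | rfl)
      · have hzs : IsSeparable K z := mem_separableClosure_iff.1 hz
        have hzm : z ∈ L₁ := IntermediateField.subset_adjoin _ _ (Or.inl hz)
        have h1 := D.map_aeval (minpoly K z) (⟨z, hzm⟩ : L₁)
        rw [show Polynomial.aeval (⟨z, hzm⟩ : L₁) (minpoly K z) = 0 from Subtype.ext (by
          rw [← IntermediateField.aeval_coe]; exact minpoly.aeval K z), map_zero, eq_comm, smul_eq_zero] at h1
        refine h1.resolve_left fun h2 => hzs.aeval_derivative_ne_zero (minpoly.aeval K z) ?_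
        have h3 := congrArg Subtype.val h2
        rw [← IntermediateField.aeval_coe] at h3
        exact h3
      · have h1 : d' (algebraMap A L (f' (X 0))) = 0 := hd' _
        rw [show f' (X 0) = θ + x ^ M from hψ 0, map_add, hadd _ hθL₁ _ (by rw [map_pow]; exact pow_mem (hKL₁ _) M),
          show x ^ M = f (X j ^ M) from (map_pow f _ _).symm, hT, add_zero] at h1
        exact h1
    intro z hz
    induction hz using IntermediateField.adjoin_induction with
    | mem y hy => exact hgen y hy
    | algebraMap a => exact hK a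
    | add a b ha hb iha ihb => rw [hadd _ ha _ hb, iha, ihb, add_zero]
    | inv a ha iha => exact hinv a ha iha
    | mul a b ha hb iha ihb => rw [hmul _ ha _ hb, iha, ihb, mul_zero, mul_zero, add_zero]
  refine lt_of_le_not_ge (fun z hz => key z (IntermediateField.subset_adjoin _ _ (Or.inl hz))) fun hge => ?_
  exact hθs (hge (key θL hθL₁))

end Groth.L05.SurfRes
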